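import Groth.Agent.IdealStalkLib.Cartier
import Groth.Prelude.Def_HilbD

/-!
The open on which a family of closed subschemes is open, and a pointwise criterion for it.
-/

set_option autoImplicit false
set_option linter.style.haveILetI false
universe u

open CategoryTheory CategoryTheory.Limits AlgebraicGeometry TopologicalSpace IsLocalRing

noncomputable section

namespace Groth.Agent.QSplitLib

variable {X Y H : Scheme.{u}}

/-- An open on which an ideal sheaf is trivial. -/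
def Good (I : X.IdealSheafData) : X.Opens := ⨆ V : {V : X.Opens // I.comap V.ι = ⊥}, V.1

theorem comap_eq_bot_iff (I : X.IdealSheafData) (V : X.Opens) :
    I.comap V.ι = ⊥ ↔ I ≤ V.ι.ker := by
  rw [← Scheme.IdealSheafData.map_bot, Scheme.IdealSheafData.le_map_iff_comap_le, le_bot_iff]

theorem mem_good_of_ideal_eq_bot (I : X.IdealSheafData) (V : X.affineOpens) (h : I.ideal V = ⊥) {x : X}
    (hx : x ∈ V.1) : x ∈ Good I := by
  refine Opens.mem_iSup.2 ⟨⟨V.1, ?_⟩, hx⟩
  haveI : IsAffine V.1.toScheme := V.2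
  refine Scheme.IdealSheafData.ext_of_iSup_eq_top (ι := PUnit.{1}) (fun _ => ⟨⊤, isAffineOpen_top _⟩)
    (by simp) fun _ => ?_
  rw [IdealStalkLib.comap_ideal I V.1.ι V.2 (isAffineOpen_top _) (by simp), show I.ideal ⟨V.1, V.2⟩ = ⊥ from h,
    Ideal.map_bot]
  rfl

theorem ideal_eq_bot_of_comap (I : X.IdealSheafData) {V : X.Opens} (h : I.comap V.ι = ⊥) (U : X.affineOpens)
    (hU : U.1 ≤ V) : I.ideal U = ⊥ := by
  rw [comap_eq_bot_iff] at h
  haveI : IsIso (V.ι.app U.1) := Scheme.Hom.isIso_app _ _ (by rw [Scheme.Opens.opensRange_ι]; exact hU)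
  refine eq_bot_iff.2 fun a ha => ?_
  have h0 : (V.ι.app U.1).hom a = 0 :=
    RingHom.mem_ker.1 (Scheme.IdealSheafData.ideal_ofIdeals_le _ _ (h U ha))
  exact Ideal.mem_bot.2 ((ConcreteCategory.bijective_of_isIso (V.ι.app U.1)).1 (h0.trans (map_zero _).symm))

theorem good_subset_support (I : X.IdealSheafData) : (Good I : Set X) ⊆ I.support := by
  intro x hx
  obtain ⟨⟨V, hV⟩, hxV⟩ := Opens.mem_iSup.1 hx
  have h : (I.comap V.ι).support = ⊤ := by rw [hV, Scheme.IdealSheafData.support_bot]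
  rw [Scheme.IdealSheafData.support_comap] at h
  have h' : (⟨x, hxV⟩ : V.toScheme) ∈ (⊤ : Closeds V.toScheme) := trivial
  rw [← h] at h'
  exact h'

theorem comap_good (I : X.IdealSheafData) : I.comap (Good I).ι = ⊥ := by
  let ι := {U : X.affineOpens // ∃ V : X.Opens, I.comap V.ι = ⊥ ∧ U.1 ≤ V}
  rw [comap_eq_bot_iff]
  have hle : ∀ i : ι, I.ideal i.1 = ⊥ := fun ⟨U, V, hV, hUV⟩ => ideal_eq_bot_of_comap I hV U hUV
  refine Scheme.IdealSheafData.le_ofIdeals_iff.2 fun U a ha => ?_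
  rw [RingHom.mem_ker]
  refine TopCat.Presheaf.section_ext (Good I).toScheme.sheaf ((Good I).ι ⁻¹ᵁ U.1) _ _ fun y hy => ?_
  refine Eq.trans ?_ (map_zero ((Good I).toScheme.presheaf.germ ((Good I).ι ⁻¹ᵁ U.1) y hy).hom).symm
  obtain ⟨⟨V, hV⟩, hyV⟩ := Opens.mem_iSup.1 y.2
  obtain ⟨_, ⟨W : X.Opens, hW, rfl⟩, hyW, hWle⟩ :=
    X.isBasis_affineOpens.exists_subset_of_mem_open (a := (Good I).ι y) (u := ↑(U.1 ⊓ V)) ⟨hy, hyV⟩ (U.1 ⊓ V).2
  have h0 := hle ⟨⟨W, hW⟩, V, hV, fun z hz => (hWle hz).2⟩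
  have hWU : W ≤ U.1 := fun z hz => (hWle hz).1
  have h1 : X.presheaf.map (homOfLE hWU).op a = 0 := by
    rw [← Ideal.mem_bot, ← h0, ← I.map_ideal (U := ⟨W, hW⟩) (V := U) hWU]
    exact Ideal.mem_map_of_mem _ ha
  have h2 := congrArg (fun b => X.presheaf.germ W ((Good I).ι y) hyW b) h1
  simp only [map_zero] at h2
  rw [← CommRingCat.comp_apply, X.presheaf.germ_res] at h2
  show (Good I).toScheme.presheaf.germ _ y hy ((Good I).ι.app U.1 a) = 0
  rw [← Scheme.Hom.germ_stalkMap_apply, h2, map_zero]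

/-- An ideal sheaf whose support is open with trivial ideal there is the ideal of that open. -/
theorem eq_ker_of_support (I : X.IdealSheafData) (V : X.Opens) (hV : I.comap V.ι = ⊥)
    (hsupp : (I.support : Set X) ⊆ V) : I = V.ι.ker := by
  refine le_antisymm ((comap_eq_bot_iff I V).1 hV) ?_
  have hr : Set.range I.subschemeι ⊆ Set.range V.ι := by
    rw [Scheme.IdealSheafData.range_subschemeι, Scheme.Opens.range_ι]; exact hsupp
  calc V.ι.ker ≤ (IsOpenImmersion.lift V.ι I.subschemeι hr ≫ V.ι).ker := Scheme.Hom.le_ker_comp _ _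
    _ = I := by rw [IsOpenImmersion.lift_fac, Scheme.IdealSheafData.ker_subschemeι]

/-- The ideal of a closed open is trivial on it. -/
theorem comap_ker_ι (V : X.Opens) : V.ι.ker.comap V.ι = ⊥ := (comap_eq_bot_iff _ V).2 le_rfl

theorem stalkIdeal_eq_bot_of_good (I : X.IdealSheafData) {x : X} (hx : x ∈ Good I) :
    IntMult.stalkIdeal I x = ⊥ := by
  obtain ⟨⟨V, hV⟩, hxV⟩ := Opens.mem_iSup.1 hx
  obtain ⟨_, ⟨U : X.Opens, hU, rfl⟩, hxU, hUV⟩ := X.isBasis_affineOpens.exists_subset_of_mem_open hxV V.2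
  rw [IdealStalkLib.stalkIdeal_eq I ⟨U, hU⟩ x hxU, ideal_eq_bot_of_comap I hV ⟨U, hU⟩ hUV, Ideal.map_bot]

/-- A flat family of closed subschemes is open near a point where its fibre is. -/
theorem mem_good_of_fibre (φ : X ⟶ H) [LocallyOfFinitePresentation φ]
    (I : X.IdealSheafData) [Flat (I.subschemeι ≫ φ)] [LocallyOfFinitePresentation (I.subschemeι ≫ φ)]
    {x : X} (hx : x ∈ I.support)
    (hfib : (IntMult.stalkIdeal I x) ≤
      (maximalIdeal (H.presheaf.stalk (φ x))).map (φ.stalkMap x).hom) : x ∈ Good I := by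
  haveI : LocallyOfFinitePresentation I.subschemeι := FlatLocus.locallyOfFinitePresentation_of_comp (f := I.subschemeι) (g := φ)
  obtain ⟨_, ⟨U : X.Opens, hU, rfl⟩, hxU, -⟩ := X.isBasis_affineOpens.exists_subset_of_mem_open (Set.mem_univ x) isOpen_univ
  let A := H.presheaf.stalk (φ x)
  let O := X.presheaf.stalk x
  let J := IntMult.stalkIdeal I x
  letI : Algebra A O := (φ.stalkMap x).hom.toAlgebra
  letI : Algebra Γ(X, U) O := TopCat.Presheaf.algebra_section_stalk X.presheaf ⟨x, hxU⟩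
  haveI := hU.isLocalization_stalk ⟨x, hxU⟩
  have hfg : (I.ideal ⟨U, hU⟩).FG := by
    have h1 := I.subschemeι.finitePresentation_appLE hU (hU.preimage I.subschemeι) le_rfl
    rw [← Scheme.Hom.app_eq_appLE] at h1
    letI := (I.subschemeι.app U).hom.toAlgebra
    haveI : Algebra.FinitePresentation Γ(X, U) Γ(I.subscheme, I.subschemeι ⁻¹ᵁ U) := h1
    rw [← I.ker_subschemeι_app ⟨U, hU⟩]
    exact Algebra.FinitePresentation.ker_fG_of_surjective (Algebra.ofId Γ(X, U) Γ(I.subscheme, I.subschemeι ⁻¹ᵁ U))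
      (I.subschemeι.app_surjective U hU)
  have hJU : J = (I.ideal ⟨U, hU⟩).map (algebraMap Γ(X, U) O) := IdealStalkLib.stalkIdeal_eq I ⟨U, hU⟩ x hxU
  have hJflat : Module.Flat A (O ⧸ J) := by
    obtain ⟨z, rfl⟩ : ∃ z, I.subschemeι z = x := by
      rw [← Set.mem_range, Scheme.IdealSheafData.range_subschemeι]; exact hx
    have hker : RingHom.ker (I.subschemeι.stalkMap z).hom = J := IdealStalkLib.ker_stalkMap_subschemeι I z
    have h1 : ((I.subschemeι ≫ φ).stalkMap z).hom.Flat := Flat.stalkMap _ z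
    rw [Scheme.Hom.stalkMap_comp] at h1
    let e : (O ⧸ J) ≃+* I.subscheme.presheaf.stalk z :=
      (Ideal.quotEquivOfEq hker.symm).trans (RingHom.quotientKerEquivOfSurjective (I.subschemeι.stalkMap_surjective z))
    letI := ((φ.stalkMap (I.subschemeι z)) ≫ I.subschemeι.stalkMap z).hom.toAlgebra
    haveI : Module.Flat A (I.subscheme.presheaf.stalk z) := h1
    exact Module.Flat.of_linearEquiv (AlgEquiv.ofRingEquiv (f := e) (fun a => rfl)).toLinearEquiv
  have hJ : J = ⊥ := by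
    refine Submodule.eq_bot_of_le_smul_of_le_jacobson_bot (maximalIdeal O) J (by rw [hJU]; exact hfg.map _) ?_
      (maximalIdeal_le_jacobson _)
    intro w hw
    exact Ideal.mul_mono_left (((local_hom_TFAE (algebraMap A O)).out 0 2).1
      (show IsLocalHom (φ.stalkMap x).hom from inferInstance))
      (IdealStalkLib.mem_map_mul_of_flat_quotient J (maximalIdeal A) hw (hfib hw))
  obtain ⟨t, htq, ht⟩ := IdealStalkLib.exists_notMem_map_away_eq (O := O) (hU.primeIdealOf ⟨x, hxU⟩).asIdeal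
    (I.ideal ⟨U, hU⟩) ⊥ hfg Submodule.fg_bot (by rw [← hJU, hJ, Ideal.map_bot])
  have hxt : x ∈ X.basicOpen t := by
    rw [X.mem_basicOpen t x hxU]
    exact IsLocalization.map_units O (⟨t, htq⟩ : (hU.primeIdealOf ⟨x, hxU⟩).asIdeal.primeCompl)
  letI : Algebra Γ(X, U) Γ(X, X.basicOpen t) := (X.presheaf.map (homOfLE (X.basicOpen_le t)).op).hom.toAlgebra
  haveI : IsLocalization.Away t Γ(X, X.basicOpen t) := hU.isLocalization_basicOpen t
  refine mem_good_of_ideal_eq_bot I ⟨X.basicOpen t, hU.basicOpen t⟩ ((I.map_ideal_basicOpen ⟨U, hU⟩ t).symm.trans ?_) hxt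
  show (I.ideal ⟨U, hU⟩).map (algebraMap Γ(X, U) Γ(X, X.basicOpen t)) = _
  rw [ht _ (IsLocalization.Away.algebraMap_isUnit t), Ideal.map_bot]

end Groth.Agent.QSplitLib
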