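import Groth.Agent.QSplitLib.Universal
import Groth.Agent.EtDescent.Scheme
import Groth.Agent.S9389
import Groth.Agent.EtaleSplit.HenselSplit

/-!
The scheme of finite open and closed pieces containing a given section, and where it is etale.
-/

set_option autoImplicit false
set_option linter.style.haveILetI false
universe u

open CategoryTheory CategoryTheory.Limits AlgebraicGeometry TopologicalSpace PicF

noncomputable section

namespace Groth.Agent.QSplitLib

variable {R U : Scheme.{u}} {f : R ⟶ U}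

theorem IsFam.le_quasiFiniteLocus [LocallyOfFiniteType f] {d : ℕ} {T : Over U} {W : (XT f T).Opens}
    (h : IsFam f d T W) : W ≤ pullback.fst f T.hom ⁻¹ᵁ f.quasiFiniteLocus := by
  intro q hq
  haveI := h.1.1
  have h1 : (W.ι ≫ XTproj f T).QuasiFiniteAt ⟨q, hq⟩ := (W.ι ≫ XTproj f T).quasiFiniteAt _
  rw [Scheme.Hom.quasiFiniteAt_comp_iff_of_isOpenImmersion] at h1
  have h2 : q ∈ {x | (pullback.snd f T.hom).QuasiFiniteAt x} := h1
  rw [S9389.result f T.hom (pullback.fst f T.hom) _ (IsPullback.of_hasPullback f T.hom)] at h2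
  exact h2

variable (f) in
/-- Open and closed finite pieces are representable. -/
theorem exists_universal' [IsAffine U] [IsSeparated f] [LocallyOfFinitePresentation f] (d : ℕ) :
    ∃ (O : Over U) (W₀ : (XT f O).Opens), IsFam f d O W₀ ∧
      ∀ (T : Over U) (W : (XT f T).Opens), IsFam f d T W → ∃! g : T ⟶ O, XTmap f g ⁻¹ᵁ W₀ = W := by
  let Q := f.quasiFiniteLocus
  obtain ⟨O, WQ, hWQ, huniv⟩ := exists_universal (Q.ι ≫ f) d
  let j : ∀ T : Over U, XT (Q.ι ≫ f) T ⟶ XT f T := fun T =>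
    pullback.map (Q.ι ≫ f) T.hom f T.hom Q.ι (𝟙 _) (𝟙 U) (Category.comp_id _) (by simp)
  have hjsq : ∀ T : Over U, IsPullback (j T) (pullback.fst (Q.ι ≫ f) T.hom) (pullback.fst f T.hom) Q.ι := fun T => by
    refine IsPullback.of_right (h₁₂ := pullback.snd f T.hom) (h₂₂ := f) (v₁₃ := T.hom) ?_
      (pullback.lift_fst _ _ _) (IsPullback.of_hasPullback f T.hom).flip
    rw [show j T ≫ pullback.snd f T.hom = pullback.snd (Q.ι ≫ f) T.hom from
      (pullback.lift_snd _ _ _).trans (Category.comp_id _)]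
    exact (IsPullback.of_hasPullback (Q.ι ≫ f) T.hom).flip
  haveI : ∀ T : Over U, IsOpenImmersion (j T) := fun T =>
    MorphismProperty.of_isPullback (P := @IsOpenImmersion) (hjsq T).flip inferInstance
  have hjsnd : ∀ T : Over U, j T ≫ XTproj f T = XTproj (Q.ι ≫ f) T := fun T =>
    (pullback.lift_snd _ _ _).trans (Category.comp_id _)
  have hrange : ∀ (T : Over U) (q : ↑(XT f T)), q ∈ (j T).opensRange ↔ pullback.fst f T.hom q ∈ Q := by
    intro T q
    constructor
    · rintro ⟨p, rfl⟩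
      rw [← Scheme.Hom.comp_apply, (hjsq T).w, Scheme.Hom.comp_apply]
      exact (pullback.fst (Q.ι ≫ f) T.hom p).2
    · intro hq
      obtain ⟨z, hz1, -⟩ := Scheme.Pullback.exists_preimage_pullback (f := pullback.fst f T.hom) (g := Q.ι) q ⟨_, hq⟩ rfl
      exact ⟨(hjsq T).isoPullback.inv z, by rw [← Scheme.Hom.comp_apply, (hjsq T).isoPullback_inv_fst]; exact hz1⟩
  have hnat : ∀ {T T' : Over U} (g : T' ⟶ T), j T' ≫ XTmap f g = XTmap (Q.ι ≫ f) g ≫ j T := by
    intro T T' g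
    apply pullback.hom_ext
    · simp only [j, XTmap, pullback.map, Category.assoc, Category.comp_id]
      erw [pullback.lift_fst, pullback.lift_fst, pullback.lift_fst, pullback.lift_fst_assoc]
    · simp only [j, XTmap, pullback.map, Category.assoc, Category.comp_id]
      erw [pullback.lift_snd, pullback.lift_snd, pullback.lift_snd_assoc, pullback.lift_snd]
  have himage : ∀ {T T' : Over U} (g : T' ⟶ T) (V : (XT (Q.ι ≫ f) T).Opens),
      XTmap f g ⁻¹ᵁ (j T ''ᵁ V) = j T' ''ᵁ (XTmap (Q.ι ≫ f) g ⁻¹ᵁ V) := by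
    intro T T' g V
    refine Opens.ext (Set.ext fun q => ?_)
    constructor
    · rintro ⟨v, hv, hvq⟩
      obtain ⟨p, rfl⟩ : q ∈ (j T').opensRange := by
        rw [hrange]
        have h := (hrange T (XTmap f g q)).1 ⟨v, hvq⟩
        rwa [← Scheme.Hom.comp_apply, show XTmap f g ≫ pullback.fst f T.hom = pullback.fst f T'.hom by
          rw [XTmap, pullback.lift_fst, Category.comp_id]] at h
      refine ⟨p, ?_, rfl⟩
      rw [← Scheme.Hom.comp_apply, hnat g, Scheme.Hom.comp_apply] at hvq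
      rwa [SetLike.mem_coe, Scheme.Hom.mem_preimage, ← (j T).isOpenEmbedding.injective hvq]
    · rintro ⟨p, hp, rfl⟩
      exact ⟨_, hp, (congrArg (fun k => k p) (hnat g)).symm⟩
  have hfam : ∀ (T : Over U) (V : (XT (Q.ι ≫ f) T).Opens), IsFam (Q.ι ≫ f) d T V → IsFam f d T (j T ''ᵁ V) := by
    intro T V hV
    have hc : IsPullback ((j T).isoImage V).inv ((j T ''ᵁ V).ι ≫ XTproj f T) (V.ι ≫ XTproj (Q.ι ≫ f) T) (𝟙 _) :=
      IsPullback.of_horiz_isIso ⟨by rw [Category.comp_id, ← hjsnd T, Scheme.Hom.isoImage_inv_ι_assoc]⟩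
    exact finLocFreeOfDeg_of_isPullback hc hV
  refine ⟨O, j O ''ᵁ WQ, hfam O WQ hWQ, fun T W hW => ?_⟩
  have hWj : j T ''ᵁ (j T ⁻¹ᵁ W) = W := by
    rw [Scheme.Hom.image_preimage_eq_opensRange_inf]
    exact inf_eq_right.2 fun q hq => (hrange T q).2 (hW.le_quasiFiniteLocus hq)
  have hWQ' : IsFam (Q.ι ≫ f) d T (j T ⁻¹ᵁ W) := by
    have h : IsFam f d T (j T ''ᵁ (j T ⁻¹ᵁ W)) := by rw [hWj]; exact hW
    have hc : IsPullback ((j T).isoImage (j T ⁻¹ᵁ W)).hom ((j T ⁻¹ᵁ W).ι ≫ XTproj (Q.ι ≫ f) T)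
        ((j T ''ᵁ (j T ⁻¹ᵁ W)).ι ≫ XTproj f T) (𝟙 _) :=
      IsPullback.of_horiz_isIso ⟨by rw [Category.comp_id, Scheme.Hom.isoImage_hom_ι_assoc, hjsnd T]⟩
    exact finLocFreeOfDeg_of_isPullback hc h
  obtain ⟨g, hg, huniq⟩ := huniv T _ hWQ'
  refine ⟨g, show _ = W by rw [himage, hg, hWj], fun g' hg' => huniq g' ?_⟩
  have e := congrArg (j T ⁻¹ᵁ ·) hg'
  rw [himage] at e
  simpa only [Scheme.Hom.preimage_image_eq] using e

variable (f) in
/-- A scheme of finite open and closed pieces containing the section `e`. -/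
structure Moduli (e : U ⟶ R) (he : e ≫ f = 𝟙 U) (d : ℕ) where
  /-- the parameter scheme -/
  O : Over U
  /-- the universal piece -/
  W : (XT f O).Opens
  fam : IsFam f d O W
  sec : ∀ x, secT f e he O x ∈ W
  univ : ∀ (T : Over U) (W' : (XT f T).Opens), IsFam f d T W' → (∀ x, secT f e he T x ∈ W') →
    ∃! g : T ⟶ O, XTmap f g ⁻¹ᵁ W = W'

theorem secT_naturality {T T' : Over U} (g : T' ⟶ T) (e : U ⟶ R) (he : e ≫ f = 𝟙 U) :
    secT f e he T' ≫ XTmap f g = g.left ≫ secT f e he T := by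
  apply pullback.hom_ext
  · simp only [secT, XTmap, pullback.map, Category.assoc, Category.comp_id]
    erw [pullback.lift_fst, pullback.lift_fst, pullback.lift_fst]
    rw [← Over.w g, Category.assoc]
  · simp only [secT, XTmap, pullback.map, Category.assoc, Category.comp_id]
    erw [pullback.lift_snd, pullback.lift_snd, pullback.lift_snd_assoc]
    simp

variable (f) in
theorem exists_moduli [IsAffine U] [IsSeparated f] [LocallyOfFinitePresentation f] (e : U ⟶ R)
    (he : e ≫ f = 𝟙 U) (d : ℕ) : Nonempty (Moduli f e he d) := by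
  obtain ⟨O, W, hW, huniv⟩ := exists_universal' f d
  let O₁ : O.left.Opens := secT f e he O ⁻¹ᵁ W
  let O' : Over U := Over.mk (O₁.ι ≫ O.hom)
  let j : O' ⟶ O := Over.homMk O₁.ι rfl
  refine ⟨⟨O', XTmap f j ⁻¹ᵁ W, hW.pullback j, fun x => ?_, fun T W' hW' hsec => ?_⟩⟩
  · show XTmap f j (secT f e he O' x) ∈ W
    rw [← Scheme.Hom.comp_apply, secT_naturality, Scheme.Hom.comp_apply]
    exact x.2
  · obtain ⟨g, hg, huniq⟩ := huniv T W' hW'
    have hr : Set.range g.left ⊆ Set.range O₁.ι := by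
      rw [Scheme.Opens.range_ι]
      rintro _ ⟨t, rfl⟩
      show secT f e he O (g.left t) ∈ W
      rw [← Scheme.Hom.comp_apply, ← secT_naturality, Scheme.Hom.comp_apply, ← Scheme.Hom.mem_preimage, hg]
      exact hsec t
    let g' : T ⟶ O' := Over.homMk (IsOpenImmersion.lift O₁.ι g.left hr) (by
      show IsOpenImmersion.lift O₁.ι g.left hr ≫ O₁.ι ≫ O.hom = T.hom
      rw [IsOpenImmersion.lift_fac_assoc, Over.w g])
    have hg'j : g' ≫ j = g := Over.OverMorphism.ext (IsOpenImmersion.lift_fac _ _ _)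
    refine ⟨g', show _ = W' by rw [← Scheme.Hom.comp_preimage, ← XTmap_comp, hg'j, hg], fun g'' h'' => ?_⟩
    have e1 := huniq (g'' ≫ j) (show _ = W' by rw [XTmap_comp, Scheme.Hom.comp_preimage]; exact h'')
    refine Over.OverMorphism.ext ((cancel_mono O₁.ι).1 ?_)
    exact congrArg (fun k : T ⟶ O => k.left) (e1.trans hg'j.symm)

variable {e : U ⟶ R} {he : e ≫ f = 𝟙 U} {d : ℕ} (M : Moduli f e he d)

/-- Two pieces with equal pullbacks give equal maps. -/
theorem Moduli.hom_ext {T : Over U} {g g' : T ⟶ M.O} (h : XTmap f g ⁻¹ᵁ M.W = XTmap f g' ⁻¹ᵁ M.W) : g = g' := by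
  obtain ⟨k, -, hk⟩ := M.univ T _ (M.fam.pullback g) fun x => by
    show XTmap f g (secT f e he T x) ∈ M.W
    rw [← Scheme.Hom.comp_apply, secT_naturality, Scheme.Hom.comp_apply]
    exact M.sec _
  exact (hk g rfl).trans (hk g' h.symm).symm

/-- The scheme of pieces is unramified: its diagonal is open. -/
theorem Moduli.isOpenImmersion_diagonal [IsSeparated f] [Flat f] [LocallyOfFinitePresentation f] :
    IsOpenImmersion (pullback.diagonal M.O.hom) := by
  let P : Over U := Over.mk (pullback.fst M.O.hom M.O.hom ≫ M.O.hom)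
  let p₁ : P ⟶ M.O := Over.homMk (pullback.fst M.O.hom M.O.hom) rfl
  let p₂ : P ⟶ M.O := Over.homMk (pullback.snd M.O.hom M.O.hom) pullback.condition.symm
  let W₁ := XTmap f p₁ ⁻¹ᵁ M.W
  let W₂ := XTmap f p₂ ⁻¹ᵁ M.W
  let π := XTproj f P
  have hW₁ := M.fam.pullback p₁
  have hW₂ := M.fam.pullback p₂
  have hclosed : ∀ {A B : (XT f P).Opens}, IsFam f d P A →
      IsClosed (⇑π '' ((A : Set ↑(XT f P)) \ B)) := by
    intro A B hA
    haveI := hA.1.1
    have h := (A.ι ≫ π).isClosedMap _ (B.2.isClosed_compl.preimage A.ι.continuous)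
    convert h using 1
    ext t
    constructor
    · rintro ⟨q, ⟨hqA, hqB⟩, rfl⟩; exact ⟨⟨q, hqA⟩, hqB, rfl⟩
    · rintro ⟨q, hq, rfl⟩; exact ⟨q.1, ⟨q.2, hq⟩, rfl⟩
  have hopen : ∀ {A B : (XT f P).Opens}, IsFam f d P B →
      IsOpen (⇑π '' ((A : Set ↑(XT f P)) \ B)) := by
    intro A B hB
    haveI := hB.isClosedImmersion
    have hBc : IsClosed (B : Set ↑(XT f P)) := by rw [← Scheme.Opens.range_ι B]; exact B.ι.isClosedEmbedding.isClosed_range
    exact π.isOpenMap _ (A.2.inter hBc.isOpen_compl)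
  let bad : Set P.left := ⇑π '' ((W₁ : Set ↑(XT f P)) \ W₂) ∪ ⇑π '' ((W₂ : Set ↑(XT f P)) \ W₁)
  let E : P.left.Opens := ⟨badᶜ, ((hclosed hW₁).union (hclosed hW₂)).isOpen_compl⟩
  let EO : Over U := Over.mk (E.ι ≫ P.hom)
  let jE : EO ⟶ P := Over.homMk E.ι rfl
  have heq : jE ≫ p₁ = jE ≫ p₂ := by
    refine M.hom_ext ?_
    rw [XTmap_comp, XTmap_comp, Scheme.Hom.comp_preimage, Scheme.Hom.comp_preimage]
    refine Opens.ext (Set.ext fun q => ?_)
    have hq : π (XTmap f jE q) ∈ E := by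
      rw [← Scheme.Hom.comp_apply, (isPullback_XTmap jE).w, Scheme.Hom.comp_apply]
      exact (XTproj f EO q).2
    exact ⟨fun h1 => by_contra fun h2 => hq (Or.inl ⟨_, ⟨h1, h2⟩, rfl⟩),
      fun h2 => by_contra fun h1 => hq (Or.inr ⟨_, ⟨h2, h1⟩, rfl⟩)⟩
  let Δ := pullback.diagonal M.O.hom
  let ΔO : M.O ⟶ P := Over.homMk Δ (by simp [Δ, P])
  have hΔ1 : ΔO ≫ p₁ = 𝟙 _ := Over.OverMorphism.ext (pullback.diagonal_fst _)
  have hΔ2 : ΔO ≫ p₂ = 𝟙 _ := Over.OverMorphism.ext (pullback.diagonal_snd _)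
  have hrange : Set.range Δ ⊆ Set.range E.ι := by
    rw [Scheme.Opens.range_ι]
    rintro _ ⟨y, rfl⟩ hy
    have key : ∀ q, π q = Δ y → (q ∈ W₁ ↔ q ∈ W₂) := by
      intro q hq
      obtain ⟨z, hz1, -⟩ := Scheme.Pullback.exists_preimage_pullback (f := π) (g := ΔO.left) q y hq
      let q' := (isPullback_XTmap (f := f) ΔO).isoPullback.inv z
      have hq' : XTmap f ΔO q' = q := by
        rw [← Scheme.Hom.comp_apply, IsPullback.isoPullback_inv_fst]; exact hz1
      have h1 : XTmap f ΔO ⁻¹ᵁ W₁ = M.W := by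
        rw [← Scheme.Hom.comp_preimage, ← XTmap_comp, hΔ1, XTmap_id, Scheme.Hom.id_preimage]
      have h2 : XTmap f ΔO ⁻¹ᵁ W₂ = M.W := by
        rw [← Scheme.Hom.comp_preimage, ← XTmap_comp, hΔ2, XTmap_id, Scheme.Hom.id_preimage]
      rw [← hq']
      exact (h1.symm ▸ Iff.rfl : q' ∈ XTmap f ΔO ⁻¹ᵁ W₁ ↔ q' ∈ M.W).trans
        (h2.symm ▸ Iff.rfl : q' ∈ XTmap f ΔO ⁻¹ᵁ W₂ ↔ q' ∈ M.W).symm
    rcases hy with ⟨q, ⟨hq1, hq2⟩, hq⟩ | ⟨q, ⟨hq1, hq2⟩, hq⟩
    · exact hq2 ((key q hq).1 hq1)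
    · exact hq2 ((key q hq).2 hq1)
  let l := IsOpenImmersion.lift E.ι Δ hrange
  have hl : l ≫ E.ι = Δ := IsOpenImmersion.lift_fac _ _ _
  let g₀ : E.toScheme ⟶ M.O.left := E.ι ≫ pullback.fst M.O.hom M.O.hom
  have hEΔ : g₀ ≫ Δ = E.ι := by
    apply pullback.hom_ext
    · simp [g₀, Δ]
    · rw [Category.assoc, pullback.diagonal_snd, Category.comp_id]
      exact congrArg (fun k : EO ⟶ M.O => k.left) heq
  haveI : IsIso l := ⟨g₀, by rw [show g₀ = E.ι ≫ pullback.fst M.O.hom M.O.hom from rfl, reassoc_of% hl,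
    pullback.diagonal_fst], by rw [← cancel_mono E.ι, Category.assoc, hl, hEΔ, Category.id_comp]⟩
  show IsOpenImmersion Δ
  rw [← hl]
  infer_instance

/-- A classifying map from an etale scheme is etale. -/
theorem Moduli.etale_of_etale [IsSeparated f] [Flat f] [LocallyOfFinitePresentation f] {T : Over U}
    [Etale T.hom] (g : T ⟶ M.O) : Etale g.left := by
  haveI := M.isOpenImmersion_diagonal
  haveI : MorphismProperty.HasOfPostcompProperty @Etale.{u} (MorphismProperty.diagonal @Etale.{u}) :=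
    MorphismProperty.hasOfPostcompProperty_iff_le_diagonal.2 le_rfl
  exact MorphismProperty.of_postcomp @Etale.{u} (W' := MorphismProperty.diagonal @Etale.{u}) g.left M.O.hom
    (show Etale (pullback.diagonal M.O.hom) from inferInstance) (by rw [Over.w g]; infer_instance)

/-- The open locus on which the scheme of pieces is etale over the base. -/
theorem Moduli.exists_etale_open [IsSeparated f] [Flat f] [LocallyOfFinitePresentation f] {T : Over U}
    [Etale T.hom] (g : T ⟶ M.O) : ∃ V : M.O.left.Opens, Set.range g.left ⊆ V ∧ Etale (V.ι ≫ M.O.hom) := by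
  haveI := M.etale_of_etale g
  let V : M.O.left.Opens := ⟨Set.range g.left, g.left.isOpenMap.isOpen_range⟩
  have hr : Set.range g.left ⊆ Set.range V.ι := by rw [Scheme.Opens.range_ι]; rfl
  refine ⟨V, le_refl _, ?_⟩
  let gV : T.left ⟶ V := IsOpenImmersion.lift V.ι g.left hr
  have hgV : gV ≫ V.ι = g.left := IsOpenImmersion.lift_fac _ _ _
  haveI : Etale (gV ≫ V.ι) := by rw [hgV]; infer_instance
  haveI : Etale gV := Etale.of_comp gV V.ι
  haveI : Surjective gV := ⟨fun x => by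
    obtain ⟨t, ht⟩ := x.2
    exact ⟨t, V.ι.isOpenEmbedding.injective ((congrArg (fun k => k t) hgV).trans ht)⟩⟩
  haveI : Etale (gV ≫ V.ι ≫ M.O.hom) := by rw [reassoc_of% hgV, Over.w g]; infer_instance
  exact EtDescent.etale_of_precomp gV _

end Groth.Agent.QSplitLib
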