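import Groth.Agent.QSplitLib.Moduli
import Groth.Agent.EtaleSplit.SplitClosed

/-!
A point of the scheme of finite pieces given by finitely many quasi-finite points of one fibre.
-/

set_option autoImplicit false
set_option linter.style.haveILetI false
universe u

open CategoryTheory CategoryTheory.Limits AlgebraicGeometry TopologicalSpace PicF

noncomputable section

namespace Groth.Agent.QSplitLib

variable {R U : Scheme.{u}} (f : R ⟶ U)

/-- An elementary etale neighbourhood over which finitely many quasi-finite points of a fibre form a finite part. -/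
theorem exists_etale_part [IsSeparated f] [LocallyOfFiniteType f] (u : U) {F : Set R} (hF : F.Finite)
    (hs : ∀ r ∈ F, f r = u) (hqf : ∀ r ∈ F, f.QuasiFiniteAt r) :
    ∃ (T : Scheme.{u}) (g : T ⟶ U) (t : T), Hens2.IsEtaleNbhd g t u ∧ ∃ W : (pullback f g).Opens,
      IsFinite (W.ι ≫ pullback.snd f g) ∧
      ∀ q, pullback.snd f g q = t → (q ∈ W ↔ pullback.fst f g q ∈ F) := by
  haveI : Finite F := hF.to_subtype
  let x : Fin (Nat.card F) → R := fun i => ((Finite.equivFin F).symm i).1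
  obtain ⟨T, g, t, hnb, V, v, hV⟩ := EtaleSplit.exists_nbhd_finite_parts f u x
    (fun i => hs _ ((Finite.equivFin F).symm i).2) (fun i => hqf _ ((Finite.equivFin F).symm i).2)
  choose hvV hfin hvt huniq hvx hbij using hV
  let pr := pullback.snd f g
  haveI : IsSeparated pr := MorphismProperty.pullback_snd (P := @IsSeparated) _ _ ‹_›
  haveI : LocallyOfFiniteType pr := MorphismProperty.pullback_snd (P := @LocallyOfFiniteType) _ _ ‹_›
  let W : (pullback f g).Opens := ⨆ i, V i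
  haveI : LocallyQuasiFinite (W.ι ≫ pr) := by
    refine (IsZariskiLocalAtSource.iff_of_openCover (P := @LocallyQuasiFinite) (Scheme.Opens.iSupOpenCover V)).2
      fun i => ?_
    haveI := hfin i
    show LocallyQuasiFinite ((pullback f g).homOfLE (le_iSup V i) ≫ W.ι ≫ pr)
    rw [Scheme.homOfLE_ι_assoc]
    infer_instance
  haveI : ∀ i, IsFinite ((W.ι ⁻¹ᵁ V i).ι ≫ W.ι ≫ pr) := fun i => by
    haveI := hfin i
    have hr : Set.range ((W.ι ⁻¹ᵁ V i).ι ≫ W.ι) = Set.range (V i).ι := by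
      ext z
      constructor
      · rintro ⟨a, rfl⟩; exact ⟨⟨_, a.2⟩, rfl⟩
      · rintro ⟨a, rfl⟩; exact ⟨⟨⟨a.1, le_iSup V i a.2⟩, a.2⟩, rfl⟩
    rw [← Category.assoc, ← IsOpenImmersion.isoOfRangeEq_hom_fac ((W.ι ⁻¹ᵁ V i).ι ≫ W.ι) _ hr, Category.assoc]
    infer_instance
  refine ⟨T, g, t, hnb, W, EtaleSplit.isFinite_of_finite_cover _ (fun i => W.ι ⁻¹ᵁ V i) fun z =>
    (Opens.mem_iSup (s := V)).1 z.2, fun q hq => ⟨fun hqW => ?_, fun hqF => ?_⟩⟩
  · obtain ⟨i, hi⟩ := Opens.mem_iSup.1 hqW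
    rw [huniq i q hi hq, hvx i]
    exact ((Finite.equivFin F).symm i).2
  · let i := Finite.equivFin F ⟨_, hqF⟩
    have h : v i = q := EtaleSplit.eq_of_fst_snd f g t hnb.residue_bijective (v i) q
      (by rw [hvx]; exact congrArg Subtype.val (Equiv.symm_apply_apply _ _)) (hvt _) hq
    exact Opens.mem_iSup.2 ⟨i, h ▸ hvV i⟩

theorem residue_bijective_of_comp {X Y Z : Scheme.{u}} (a : X ⟶ Y) (b : Y ⟶ Z) (x : X)
    (h : Function.Bijective ((a ≫ b).residueFieldMap x)) : Function.Bijective (b.residueFieldMap (a x)) := by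
  refine ⟨(b.residueFieldMap (a x)).hom.injective, fun z => ?_⟩
  obtain ⟨w, hw⟩ := h.2 ((a.residueFieldMap x).hom z)
  rw [Scheme.residueFieldMap_comp] at hw
  exact ⟨w, (a.residueFieldMap x).hom.injective hw⟩

/-- The point of the scheme of pieces given by finitely many quasi-finite points. -/
theorem exists_point [IsAffine U] [IsSeparated f] [Flat f] [LocallyOfFinitePresentation f] (e : U ⟶ R)
    (he : e ≫ f = 𝟙 U) (u : U) {F : Set R} (hF : F.Finite) (heF : e u ∈ F) (hs : ∀ r ∈ F, f r = u)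
    (hqf : ∀ r ∈ F, f.QuasiFiniteAt r) :
    ∃ (d : ℕ) (M : Moduli f e he d) (h₀ : M.O.left) (V : M.O.left.Opens), h₀ ∈ V ∧ Etale (V.ι ≫ M.O.hom) ∧
      M.O.hom h₀ = u ∧ Function.Bijective (M.O.hom.residueFieldMap h₀) ∧
      ∀ q : ↑(XT f M.O), XTproj f M.O q = h₀ → (q ∈ M.W ↔ pullback.fst f M.O.hom q ∈ F) := by
  obtain ⟨T₀, g₀, t₀, hnb, W, hWfin, hW⟩ := exists_etale_part f u hF hs hqf
  haveI := hnb.etale
  haveI : IsFinite (W.ι ≫ pullback.snd f g₀) := hWfin
  haveI : Flat (W.ι ≫ pullback.snd f g₀) := inferInstance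
  haveI : LocallyOfFinitePresentation (W.ι ≫ pullback.snd f g₀) := inferInstance
  let d := (W.ι ≫ pullback.snd f g₀).finrank t₀
  let A₀ : Over U := Over.mk g₀
  let T₁ : T₀.Opens := ⟨_, (W.ι ≫ pullback.snd f g₀).isLocallyConstant_finrank.isOpen_fiber d⟩ ⊓
    secT f e he A₀ ⁻¹ᵁ W
  have hsec₀ : secT f e he A₀ t₀ ∈ W := by
    have h2 : pullback.snd f g₀ (secT f e he A₀ t₀) = t₀ :=
      congrArg (fun k => k t₀) (pullback.lift_snd (g₀ ≫ e) (𝟙 T₀) _)
    rw [hW _ h2, show pullback.fst f g₀ (secT f e he A₀ t₀) = e (g₀ t₀) from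
      congrArg (fun k => k t₀) (pullback.lift_fst (g₀ ≫ e) (𝟙 T₀) _), hnb.base_eq]
    exact heF
  let A : Over U := Over.mk (T₁.ι ≫ g₀)
  let j : A ⟶ A₀ := Over.homMk T₁.ι rfl
  let W₁ := XTmap f j ⁻¹ᵁ W
  haveI : Etale A.hom := inferInstanceAs (Etale (T₁.ι ≫ g₀))
  have hc : IsPullback (XTmap f j ∣_ W) (W₁.ι ≫ XTproj f A) (W.ι ≫ pullback.snd f g₀) T₁.ι :=
    (isPullback_morphismRestrict (XTmap f j) W).paste_vert (isPullback_XTmap j)
  have hfam : IsFam f d A W₁ := by
    refine ⟨⟨MorphismProperty.of_isPullback (P := @IsFinite) hc inferInstance,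
      MorphismProperty.of_isPullback (P := @Flat) hc inferInstance,
      MorphismProperty.of_isPullback (P := @LocallyOfFinitePresentation) hc inferInstance⟩, fun y => ?_⟩
    rw [Scheme.Hom.finrank_of_isPullback _ _ _ _ hc y]
    exact y.2.1
  have hsec : ∀ x, secT f e he A x ∈ W₁ := fun x => by
    show XTmap f j (secT f e he A x) ∈ W
    rw [← Scheme.Hom.comp_apply, secT_naturality, Scheme.Hom.comp_apply]
    exact x.2.2
  obtain ⟨M⟩ := exists_moduli f e he d
  obtain ⟨g, hg, -⟩ := M.univ A W₁ hfam hsec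
  obtain ⟨V, hgV, hV⟩ := M.exists_etale_open g
  let t₁ : A.left := (⟨t₀, rfl, hsec₀⟩ : T₁)
  have hcomp : g.left ≫ M.O.hom = T₁.ι ≫ g₀ := Over.w g
  have hbij : Function.Bijective ((g.left ≫ M.O.hom).residueFieldMap t₁) := by
    haveI : IsIso (g₀.residueFieldMap (T₁.ι t₁)) := (ConcreteCategory.isIso_iff_bijective _).2 hnb.residue_bijective
    rw [Scheme.Hom.residueFieldMap_congr hcomp, Scheme.residueFieldMap_comp]
    haveI : IsOpenImmersion T₁.ι := inferInstance
    refine @ConcreteCategory.bijective_of_isIso _ _ _ _ _ _ _ _ _ (@IsIso.comp_isIso _ _ _ _ _ _ _ inferInstance ?_)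
    exact @IsIso.comp_isIso _ _ _ _ _ _ _ ‹_› inferInstance
  refine ⟨d, M, g.left t₁, V, hgV ⟨t₁, rfl⟩, hV, ?_, residue_bijective_of_comp _ _ _ hbij, fun q hq => ?_⟩
  · show (g.left ≫ M.O.hom) t₁ = u
    rw [hcomp]; exact hnb.base_eq
  obtain ⟨z, hz1, hz2⟩ := Scheme.Pullback.exists_preimage_pullback (f := XTproj f M.O) (g := g.left) q t₁ hq
  let q' := (isPullback_XTmap (f := f) g).isoPullback.inv z
  have hq1 : XTmap f g q' = q := by
    rw [← Scheme.Hom.comp_apply, IsPullback.isoPullback_inv_fst]; exact hz1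
  have hq2 : XTproj f A q' = t₁ := by
    rw [← Scheme.Hom.comp_apply, IsPullback.isoPullback_inv_snd]; exact hz2
  have hfst : ∀ {T T' : Over U} (k : T' ⟶ T) x, pullback.fst f T.hom (XTmap f k x) = pullback.fst f T'.hom x := by
    intro T T' k x
    rw [← Scheme.Hom.comp_apply, XTmap, pullback.lift_fst, Category.comp_id]
  rw [← hq1, hfst, ← hfst j q', ← Scheme.Hom.mem_preimage, hg]
  refine hW _ ?_
  show pullback.snd f g₀ (XTmap f j q') = t₀
  exact (congrArg (fun m => m q') (isPullback_XTmap (f := f) j).w).trans (congrArg j.left hq2)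

end Groth.Agent.QSplitLib
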