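import Groth.Agent.QSplitLib.Moduli
import Groth.Agent.FinGrpdLib.Points2

/-!
The universal piece of the source map of a groupoid is itself a groupoid over the scheme of pieces.
-/

set_option autoImplicit false
set_option linter.style.haveILetI false
universe u

open CategoryTheory CategoryTheory.Limits AlgebraicGeometry TopologicalSpace PicF
open Groth.Agent.FinGrpdLib

noncomputable section

namespace Groth.Agent.QSplitLib

variable {S : Scheme.{u}} {G : Grpd.GroupoidScheme S} {d : ℕ} (M : Moduli G.s G.e G.e_s d)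

/-- The arrow underlying a point of the universal piece. -/
def arrow : M.W.toScheme ⟶ G.R := M.W.ι ≫ pullback.fst G.s M.O.hom

/-- The parameter of a point of the universal piece. -/
def src : M.W.toScheme ⟶ M.O.left := M.W.ι ≫ XTproj G.s M.O

theorem arrow_s : arrow M ≫ G.s = src M ≫ M.O.hom := by
  rw [arrow, src, Category.assoc, Category.assoc, pullback.condition]

theorem src_arrow_ext {T : Scheme.{u}} {p p' : T ⟶ M.W.toScheme} (h₁ : p ≫ arrow M = p' ≫ arrow M)
    (h₂ : p ≫ src M = p' ≫ src M) : p = p' := by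
  rw [← cancel_mono M.W.ι]
  apply pullback.hom_ext
  · simpa only [arrow, Category.assoc] using h₁
  · simpa only [src, Category.assoc] using h₂

/-- The arrow `r` lies in the piece at `o`. -/
def Mem {T : Scheme.{u}} (o : T ⟶ M.O.left) (r : T ⟶ G.R) : Prop :=
  ∃ p : T ⟶ M.W.toScheme, p ≫ arrow M = r ∧ p ≫ src M = o

theorem mem_iff {T : Scheme.{u}} (o : T ⟶ M.O.left) (r : T ⟶ G.R) :
    Mem M o r ↔ ∃ hr : r ≫ G.s = o ≫ M.O.hom, ∀ x, pullback.lift r o hr x ∈ M.W := by
  constructor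
  · rintro ⟨p, rfl, rfl⟩
    refine ⟨by rw [Category.assoc, arrow_s, Category.assoc], fun x => ?_⟩
    rw [show pullback.lift (p ≫ arrow M) (p ≫ src M) _ = p ≫ M.W.ι by
      apply pullback.hom_ext
      · exact (pullback.lift_fst _ _ _).trans (Category.assoc _ _ _).symm
      · exact (pullback.lift_snd _ _ _).trans (Category.assoc _ _ _).symm, Scheme.Hom.comp_apply]
    exact (p x).2
  · rintro ⟨hr, hx⟩
    refine ⟨IsOpenImmersion.lift M.W.ι (pullback.lift r o hr) (by
      rw [Scheme.Opens.range_ι]; rintro _ ⟨x, rfl⟩; exact hx x), ?_, ?_⟩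
    · rw [arrow, IsOpenImmersion.lift_fac_assoc, pullback.lift_fst]
    · rw [src, IsOpenImmersion.lift_fac_assoc, pullback.lift_snd]

theorem mem_id {T : Scheme.{u}} (o : T ⟶ M.O.left) : Mem M o (o ≫ M.O.hom ≫ G.e) := by
  rw [mem_iff]
  refine ⟨by rw [Category.assoc, Category.assoc, G.e_s, Category.comp_id], fun x => ?_⟩
  rw [show pullback.lift (o ≫ M.O.hom ≫ G.e) o _ = o ≫ secT G.s G.e G.e_s M.O by
    apply pullback.hom_ext
    · rw [pullback.lift_fst, Category.assoc, secT, pullback.lift_fst]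
    · rw [pullback.lift_snd, Category.assoc, secT, pullback.lift_snd, Category.comp_id], Scheme.Hom.comp_apply]
  exact M.sec _

/-- Maps to the scheme of pieces are determined by their field-valued pieces. -/
theorem ext_of_mem {T : Scheme.{u}} (o o' : T ⟶ M.O.left) (h : o ≫ M.O.hom = o' ≫ M.O.hom)
    (hm : ∀ (K : Type u) [Field K] (g : Spec (.of K) ⟶ T) (r : Spec (.of K) ⟶ G.R),
      r ≫ G.s = g ≫ o ≫ M.O.hom → (Mem M (g ≫ o) r ↔ Mem M (g ≫ o') r)) : o = o' := by
  let A : Over G.U := Over.mk (o ≫ M.O.hom)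
  let g₁ : A ⟶ M.O := Over.homMk o rfl
  let g₂ : A ⟶ M.O := Over.homMk o' h.symm
  have e : g₁ = g₂ := by
    refine M.hom_ext (Opens.ext (Set.ext fun q => ?_))
    let κ : Spec (CommRingCat.of ((XT G.s A).residueField q)) ⟶ XT G.s A := (XT G.s A).fromSpecResidueField q
    let g := κ ≫ XTproj G.s A
    let r := κ ≫ pullback.fst G.s A.hom
    have hr : r ≫ G.s = g ≫ o ≫ M.O.hom := by
      simp only [r, g, Category.assoc]; exact congrArg (κ ≫ ·) pullback.condition
    have key : ∀ (k : A ⟶ M.O), (XTmap G.s k q ∈ M.W ↔ Mem M (g ≫ k.left) r) := fun k => by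
      have hl : ∀ hh, pullback.lift r (g ≫ k.left) hh = κ ≫ XTmap G.s k := fun hh => by
        apply pullback.hom_ext
        · rw [pullback.lift_fst, Category.assoc, XTmap, pullback.lift_fst, Category.comp_id]
        · rw [pullback.lift_snd]
          exact (Category.assoc _ _ _).trans ((congrArg (κ ≫ ·) (isPullback_XTmap (f := G.s) k).w.symm).trans
            (Category.assoc _ _ _).symm)
      rw [mem_iff]
      constructor
      · intro hq
        refine ⟨by rw [hr, Category.assoc]; exact congrArg (g ≫ ·) (Over.w k).symm, fun x => ?_⟩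
        rw [hl, Scheme.Hom.comp_apply, show κ x = q from Scheme.fromSpecResidueField_apply _ _]
        exact hq
      · rintro ⟨hh, hx⟩
        have h0 := hx (IsLocalRing.closedPoint _)
        rwa [hl, Scheme.Hom.comp_apply, show κ _ = q from Scheme.fromSpecResidueField_apply _ _] at h0
    exact (key g₁).trans ((hm _ g r hr).trans (key g₂).symm)
  exact congrArg (fun k : A ⟶ M.O => k.left) e

theorem exists_tgt : ∃ τ : M.W.toScheme ⟶ M.O.left, τ ≫ M.O.hom = arrow M ≫ G.t ∧
    ∀ {T : Scheme.{u}} (p : T ⟶ M.W.toScheme) (r : T ⟶ G.R) (h : r ≫ G.s = (p ≫ arrow M) ≫ G.t),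
      Mem M (p ≫ τ) r ↔ Mem M (p ≫ src M) (mul G r (p ≫ arrow M) h) := by
  let A : Over G.U := Over.mk (src M ≫ M.O.hom)
  let B : Over G.U := Over.mk (arrow M ≫ G.t)
  let a₁ : XT G.s B ⟶ G.R := pullback.fst G.s B.hom
  let a₂ : XT G.s A ⟶ G.R := pullback.fst G.s A.hom
  have h₁ : a₁ ≫ G.s = (XTproj G.s B ≫ arrow M) ≫ G.t := by
    rw [Category.assoc]; exact pullback.condition
  have h₂ : a₂ ≫ G.s = (XTproj G.s A ≫ arrow M ≫ G.i) ≫ G.t := by
    rw [Category.assoc, Category.assoc, G.i_t, arrow_s]; exact pullback.condition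
  let Φ : XT G.s B ⟶ XT G.s A := pullback.lift (mul G a₁ (XTproj G.s B ≫ arrow M) h₁) (XTproj G.s B)
    (by rw [mul_s, Category.assoc, arrow_s]; rfl)
  let Ψ : XT G.s A ⟶ XT G.s B := pullback.lift (mul G a₂ (XTproj G.s A ≫ arrow M ≫ G.i) h₂) (XTproj G.s A)
    (by rw [mul_s, Category.assoc, Category.assoc, G.i_s]; rfl)
  have hΦ₁ : Φ ≫ a₂ = mul G a₁ (XTproj G.s B ≫ arrow M) h₁ := pullback.lift_fst _ _ _
  have hΦ₂ : Φ ≫ XTproj G.s A = XTproj G.s B := pullback.lift_snd _ _ _
  have hΨ₁ : Ψ ≫ a₁ = mul G a₂ (XTproj G.s A ≫ arrow M ≫ G.i) h₂ := pullback.lift_fst _ _ _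
  have hΨ₂ : Ψ ≫ XTproj G.s B = XTproj G.s A := pullback.lift_snd _ _ _
  haveI : IsIso Φ := by
    refine ⟨Ψ, ?_, ?_⟩
    · apply pullback.hom_ext
      · rw [Category.assoc, show Ψ ≫ pullback.fst G.s B.hom = _ from hΨ₁, comp_mul, Category.id_comp,
          mul_congr hΦ₁ (show Φ ≫ XTproj G.s A ≫ arrow M ≫ G.i = XTproj G.s B ≫ arrow M ≫ G.i by
            rw [reassoc_of% hΦ₂])]
        refine (G.assoc _ _ _ h₁ (by simp only [Category.assoc, G.i_t])).trans ?_
        refine (mul_congr rfl ?_ _).trans (G.comp_e a₁)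
        rw [reassoc_of% h₁]
        have := G.comp_i (XTproj G.s B ≫ arrow M)
        simp only [Category.assoc] at this ⊢
        exact this
      · rw [Category.assoc, show Ψ ≫ pullback.snd G.s B.hom = _ from hΨ₂, Category.id_comp]; exact hΦ₂
    · apply pullback.hom_ext
      · rw [Category.assoc, show Φ ≫ pullback.fst G.s A.hom = _ from hΦ₁, comp_mul, Category.id_comp,
          mul_congr hΨ₁ (show Ψ ≫ XTproj G.s B ≫ arrow M = XTproj G.s A ≫ arrow M by rw [reassoc_of% hΨ₂])]
        refine (G.assoc _ _ _ h₂ (by simp only [Category.assoc, G.i_s])).trans ?_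
        refine (mul_congr rfl ?_ _).trans (G.comp_e a₂)
        have := G.i_comp (XTproj G.s A ≫ arrow M)
        simp only [Category.assoc] at this ⊢
        rw [this, reassoc_of% (show a₂ ≫ G.s = XTproj G.s A ≫ src M ≫ M.O.hom from pullback.condition),
          reassoc_of% (arrow_s M)]
      · rw [Category.assoc, show Φ ≫ pullback.snd G.s A.hom = _ from hΦ₂, Category.id_comp]; exact hΨ₂
  let gA : A ⟶ M.O := Over.homMk (src M) rfl
  have hfam : IsFam G.s d B (Φ ⁻¹ᵁ (XTmap G.s gA ⁻¹ᵁ M.W)) :=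
    finLocFreeOfDeg_of_isPullback ((isPullback_morphismRestrict Φ _).paste_vert
      (IsPullback.of_horiz_isIso ⟨by rw [Category.comp_id]; exact hΦ₂⟩ :
        IsPullback Φ (XTproj G.s B) (XTproj G.s A) (𝟙 _))) (M.fam.pullback gA)
  obtain ⟨g, hg, -⟩ := M.univ B _ hfam fun x => by
    show XTmap G.s gA (Φ (secT G.s G.e G.e_s B x)) ∈ M.W
    rw [← Scheme.Hom.comp_apply, ← Scheme.Hom.comp_apply,
      show secT G.s G.e G.e_s B ≫ Φ ≫ XTmap G.s gA = M.W.ι by
        apply pullback.hom_ext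
        · rw [Category.assoc, Category.assoc, XTmap, pullback.lift_fst, Category.comp_id,
            show Φ ≫ pullback.fst G.s A.hom = _ from hΦ₁, comp_mul]
          refine (mul_congr ?_ ?_ _).trans (G.e_comp (arrow M))
          · show secT G.s G.e G.e_s B ≫ pullback.fst G.s B.hom = _
            rw [secT, pullback.lift_fst]; exact Category.assoc _ _ _
          · rw [← Category.assoc, show secT G.s G.e G.e_s B ≫ XTproj G.s B = 𝟙 _ from pullback.lift_snd _ _ _]
            exact Category.id_comp _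
        · rw [Category.assoc, Category.assoc, show XTmap G.s gA ≫ pullback.snd G.s M.O.hom = _ from
            (isPullback_XTmap (f := G.s) gA).w, reassoc_of% hΦ₂, ← Category.assoc,
            show secT G.s G.e G.e_s B ≫ XTproj G.s B = 𝟙 _ from pullback.lift_snd _ _ _]
          exact Category.id_comp _]
    exact x.2
  refine ⟨g.left, Over.w g, fun {T} p r h => ?_⟩
  let q : T ⟶ XT G.s B := pullback.lift r p (by rw [h, Category.assoc]; rfl)
  have hq₁ : ∀ hh, q ≫ XTmap G.s g = pullback.lift r (p ≫ g.left) hh := fun hh => by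
    apply pullback.hom_ext
    · rw [Category.assoc, XTmap, pullback.lift_fst, Category.comp_id, pullback.lift_fst, pullback.lift_fst]
    · rw [Category.assoc, show XTmap G.s g ≫ pullback.snd G.s M.O.hom = _ from (isPullback_XTmap (f := G.s) g).w,
        pullback.lift_snd, ← Category.assoc, show q ≫ XTproj G.s B = p from pullback.lift_snd _ _ _]
  have hq₂ : ∀ hh, q ≫ Φ ≫ XTmap G.s gA = pullback.lift (mul G r (p ≫ arrow M) h) (p ≫ src M) hh := fun hh => by
    apply pullback.hom_ext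
    · rw [Category.assoc, Category.assoc, XTmap, pullback.lift_fst, Category.comp_id,
        show Φ ≫ pullback.fst G.s A.hom = _ from hΦ₁, comp_mul]
      refine Eq.trans ?_ (pullback.lift_fst _ _ _).symm
      exact mul_congr (pullback.lift_fst _ _ _) (by
        rw [← Category.assoc, show q ≫ XTproj G.s B = p from pullback.lift_snd _ _ _]) _
    · rw [Category.assoc, Category.assoc, show XTmap G.s gA ≫ pullback.snd G.s M.O.hom = _ from
          (isPullback_XTmap (f := G.s) gA).w, reassoc_of% hΦ₂, pullback.lift_snd, ← Category.assoc,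
        show q ≫ XTproj G.s B = p from pullback.lift_snd _ _ _]
      rfl
  have hs1 : r ≫ G.s = (p ≫ g.left) ≫ M.O.hom := by rw [h, Category.assoc, Category.assoc, Over.w g]; rfl
  have hs2 : mul G r (p ≫ arrow M) h ≫ G.s = (p ≫ src M) ≫ M.O.hom := by
    rw [mul_s, Category.assoc, arrow_s, Category.assoc]
  simp only [mem_iff, hs1, hs2, exists_true_left]
  refine forall_congr' fun x => ?_
  rw [← hq₁ hs1, ← hq₂ hs2]
  simp only [Scheme.Hom.comp_apply]
  show q x ∈ XTmap G.s g ⁻¹ᵁ M.W ↔ _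
  rw [hg]
  rfl

/-- The target parameter of a point of the universal piece. -/
def tgt : M.W.toScheme ⟶ M.O.left := (exists_tgt M).choose

theorem tgt_hom : tgt M ≫ M.O.hom = arrow M ≫ G.t := (exists_tgt M).choose_spec.1

theorem mem_tgt {T : Scheme.{u}} (p : T ⟶ M.W.toScheme) (r : T ⟶ G.R) (h : r ≫ G.s = (p ≫ arrow M) ≫ G.t) :
    Mem M (p ≫ tgt M) r ↔ Mem M (p ≫ src M) (mul G r (p ≫ arrow M) h) :=
  (exists_tgt M).choose_spec.2 p r h

theorem arrow_comp_cond {T : Scheme.{u}} (p₁ p₂ : T ⟶ M.W.toScheme) (h : p₁ ≫ src M = p₂ ≫ tgt M) :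
    (p₁ ≫ arrow M) ≫ G.s = (p₂ ≫ arrow M) ≫ G.t := by
  rw [Category.assoc, arrow_s, reassoc_of% h, tgt_hom, Category.assoc]

theorem exists_comp {T : Scheme.{u}} (p₁ p₂ : T ⟶ M.W.toScheme) (h : p₁ ≫ src M = p₂ ≫ tgt M) :
    ∃ p : T ⟶ M.W.toScheme, p ≫ arrow M = mul G (p₁ ≫ arrow M) (p₂ ≫ arrow M) (arrow_comp_cond M p₁ p₂ h) ∧
      p ≫ src M = p₂ ≫ src M :=
  (mem_tgt M p₂ (p₁ ≫ arrow M) _).1 ⟨p₁, rfl, h⟩

/-- The composition of the piece groupoid. -/
def pComp : pullback (src M) (tgt M) ⟶ M.W.toScheme := (exists_comp M _ _ pullback.condition).choose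

theorem pComp_arrow {T : Scheme.{u}} (p₁ p₂ : T ⟶ M.W.toScheme) (h : p₁ ≫ src M = p₂ ≫ tgt M) :
    (pullback.lift p₁ p₂ h ≫ pComp M) ≫ arrow M =
      mul G (p₁ ≫ arrow M) (p₂ ≫ arrow M) (arrow_comp_cond M p₁ p₂ h) := by
  rw [Category.assoc, pComp, (exists_comp M _ _ pullback.condition).choose_spec.1, comp_mul]
  exact mul_congr (by rw [pullback.lift_fst_assoc]) (by rw [pullback.lift_snd_assoc]) _

theorem pComp_src {T : Scheme.{u}} (p₁ p₂ : T ⟶ M.W.toScheme) (h : p₁ ≫ src M = p₂ ≫ tgt M) :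
    (pullback.lift p₁ p₂ h ≫ pComp M) ≫ src M = p₂ ≫ src M := by
  rw [Category.assoc, pComp, (exists_comp M _ _ pullback.condition).choose_spec.2, pullback.lift_snd_assoc]

theorem pComp_tgt {T : Scheme.{u}} (p₁ p₂ : T ⟶ M.W.toScheme) (h : p₁ ≫ src M = p₂ ≫ tgt M) :
    (pullback.lift p₁ p₂ h ≫ pComp M) ≫ tgt M = p₁ ≫ tgt M := by
  have ht : ((pullback.lift p₁ p₂ h ≫ pComp M) ≫ arrow M) ≫ G.t = (p₁ ≫ arrow M) ≫ G.t := by
    rw [pComp_arrow, mul_t]
  refine ext_of_mem M _ _ (by simpa only [Category.assoc, tgt_hom] using ht)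
    fun K _ g r hr => ?_
  have hr₁ : r ≫ G.s = ((g ≫ p₁) ≫ arrow M) ≫ G.t := by
    rw [hr]; simp only [Category.assoc] at ht ⊢; rw [tgt_hom, ht]
  have hr₂ : r ≫ G.s = ((g ≫ pullback.lift p₁ p₂ h ≫ pComp M) ≫ arrow M) ≫ G.t := by
    rw [hr₁]; simp only [Category.assoc] at ht ⊢; rw [ht]
  have h' : (g ≫ p₁) ≫ src M = (g ≫ p₂) ≫ tgt M := by rw [Category.assoc, h, Category.assoc]
  have h₁ : mul G r ((g ≫ p₁) ≫ arrow M) hr₁ ≫ G.s = ((g ≫ p₂) ≫ arrow M) ≫ G.t := by
    rw [mul_s]; exact arrow_comp_cond M _ _ h'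
  rw [← Category.assoc g, ← Category.assoc g (p₁), mem_tgt M _ r hr₂, mem_tgt M _ r hr₁, h', mem_tgt M _ _ h₁]
  refine Iff.of_eq (congrArg₂ (Mem M) ?_ ?_)
  · rw [Category.assoc, pComp_src, Category.assoc]
  · refine Eq.trans ?_ (G.assoc r ((g ≫ p₁) ≫ arrow M) ((g ≫ p₂) ≫ arrow M) hr₁ (arrow_comp_cond M _ _ h')).symm
    refine mul_congr rfl ?_ _
    rw [Category.assoc, pComp_arrow, comp_mul]
    exact mul_congr (Category.assoc _ _ _).symm (Category.assoc _ _ _).symm _

/-- The identities of the piece groupoid. -/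
def pE : M.O.left ⟶ M.W.toScheme := (mem_id M (𝟙 _)).choose

theorem pE_arrow : pE M ≫ arrow M = M.O.hom ≫ G.e := by
  rw [pE, (mem_id M (𝟙 _)).choose_spec.1, Category.id_comp]

theorem pE_src : pE M ≫ src M = 𝟙 _ := (mem_id M (𝟙 _)).choose_spec.2

theorem pE_tgt : pE M ≫ tgt M = 𝟙 _ := by
  refine ext_of_mem M _ _ (by rw [Category.assoc, tgt_hom, reassoc_of% (pE_arrow M), G.e_t, Category.comp_id,
    Category.id_comp]) fun K _ g r hr => ?_
  have hr' : r ≫ G.s = ((g ≫ pE M) ≫ arrow M) ≫ G.t := by rw [hr]; simp [tgt_hom]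
  rw [← Category.assoc, mem_tgt M _ r hr']
  refine Iff.of_eq (congrArg₂ (Mem M) ?_ ?_)
  · rw [Category.assoc, pE_src]
  · refine (mul_congr rfl ?_ _).trans (G.comp_e r)
    rw [reassoc_of% hr, Category.assoc, pE_arrow, reassoc_of% (tgt_hom M), reassoc_of% (pE_arrow M),
      reassoc_of% G.e_t]

theorem exists_inv : ∃ i : M.W.toScheme ⟶ M.W.toScheme, i ≫ arrow M = arrow M ≫ G.i ∧ i ≫ src M = tgt M := by
  have h : (arrow M ≫ G.i) ≫ G.s = (𝟙 _ ≫ arrow M) ≫ G.t := by rw [Category.assoc, G.i_s, Category.id_comp]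
  have := (mem_tgt M (𝟙 _) (arrow M ≫ G.i) h).2 (by
    rw [mul_congr rfl (Category.id_comp _), show mul G (arrow M ≫ G.i) (arrow M) _ = arrow M ≫ G.s ≫ G.e from
      G.i_comp _, Category.id_comp, reassoc_of% (arrow_s M)]
    exact mem_id M (src M))
  obtain ⟨i, h₁, h₂⟩ := this
  exact ⟨i, h₁, h₂.trans (Category.id_comp _)⟩

/-- The inverses of the piece groupoid. -/
def pI : M.W.toScheme ⟶ M.W.toScheme := (exists_inv M).choose

theorem pI_arrow : pI M ≫ arrow M = arrow M ≫ G.i := (exists_inv M).choose_spec.1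

theorem pI_src : pI M ≫ src M = tgt M := (exists_inv M).choose_spec.2

theorem pI_tgt : pI M ≫ tgt M = src M := by
  have h : pI M ≫ src M = 𝟙 _ ≫ tgt M := by rw [pI_src, Category.id_comp]
  rw [← pComp_tgt M (pI M) (𝟙 _) h, show pullback.lift (pI M) (𝟙 _) h ≫ pComp M = src M ≫ pE M from
    src_arrow_ext M (by
      rw [pComp_arrow, mul_congr (pI_arrow M) (Category.id_comp _)]
      refine (G.i_comp _).trans ?_
      rw [Category.assoc, pE_arrow, ← reassoc_of% (arrow_s M)]) (by rw [pComp_src, Category.id_comp, Category.assoc, pE_src, Category.comp_id]),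
    Category.assoc, pE_tgt, Category.comp_id]

/-- The universal piece as a groupoid over the scheme of pieces. -/
def piece : Grpd.GroupoidScheme S where
  U := M.O.left
  R := M.W.toScheme
  pU := M.O.hom ≫ G.pU
  pR := arrow M ≫ G.pR
  s := src M
  t := tgt M
  e := pE M
  i := pI M
  c := pComp M
  s_over := by rw [← reassoc_of% (arrow_s M), G.s_over]
  t_over := by rw [reassoc_of% (tgt_hom M), G.t_over]
  comp_s := fun α β h => pComp_src M α β h
  comp_t := fun α β h => pComp_tgt M α β h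
  assoc := fun α β γ h₁ h₂ => src_arrow_ext M (by
    refine (pComp_arrow M _ _ _).trans (Eq.trans ?_ (pComp_arrow M _ _ _).symm)
    refine (mul_congr (pComp_arrow M α β h₁) rfl _).trans (Eq.trans ?_ (mul_congr rfl (pComp_arrow M β γ h₂) _).symm)
    exact G.assoc _ _ _ _ _) (by simp only [pComp_src])
  e_s := pE_src M
  e_t := pE_tgt M
  comp_e := fun α => src_arrow_ext M (by
    rw [pComp_arrow]
    refine (mul_congr rfl ?_ _).trans (G.comp_e _)
    simp only [Category.assoc, pE_arrow]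
    rw [reassoc_of% (arrow_s M)]) (by rw [pComp_src]; simp [pE_src])
  e_comp := fun α => src_arrow_ext M (by
    rw [pComp_arrow]
    refine (mul_congr ?_ rfl _).trans (G.e_comp _)
    simp only [Category.assoc, pE_arrow]
    rw [reassoc_of% (tgt_hom M)]) (pComp_src M _ _ _)
  i_s := pI_src M
  i_t := pI_tgt M
  comp_i := fun α => src_arrow_ext M (by
    rw [pComp_arrow, mul_congr rfl (show (α ≫ pI M) ≫ arrow M = (α ≫ arrow M) ≫ G.i by
      rw [Category.assoc, pI_arrow, Category.assoc])]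
    refine (G.comp_i _).trans ?_
    simp only [Category.assoc, pE_arrow]
    rw [reassoc_of% (tgt_hom M)]) (by rw [pComp_src]; simp [pI_src, pE_src])
  i_comp := fun α => src_arrow_ext M (by
    rw [pComp_arrow, mul_congr (show (α ≫ pI M) ≫ arrow M = (α ≫ arrow M) ≫ G.i by
      rw [Category.assoc, pI_arrow, Category.assoc]) rfl]
    refine (G.i_comp _).trans ?_
    simp only [Category.assoc, pE_arrow]
    rw [reassoc_of% (arrow_s M)]) (by rw [pComp_src]; simp [pE_src])

instance : IsFinite (piece M).s := M.fam.1.1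
instance : Flat (piece M).s := M.fam.1.2.1
instance : LocallyOfFinitePresentation (piece M).s := M.fam.1.2.2

end Groth.Agent.QSplitLib
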