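import Groth.Agent.QuasiSecLib.Basic
import Mathlib.AlgebraicGeometry.Morphisms.Etale

/-!
Restriction of a groupoid scheme along an arbitrary morphism to the objects.
-/

set_option autoImplicit false
set_option backward.isDefEq.respectTransparency false
set_option linter.style.haveILetI false
universe u

open CategoryTheory CategoryTheory.Limits AlgebraicGeometry
open Groth.Agent.FinGrpdLib Groth.Agent.QuasiSecLib

noncomputable section

namespace Groth.Agent.QSplitLib

variable {S : Scheme.{u}} (G : Grpd.GroupoidScheme S) {U' : Scheme.{u}} (f : U' ⟶ G.U)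

theorem R'_ext {T : Scheme.{u}} {α β : T ⟶ R' G f} (h₁ : α ≫ ρ G f = β ≫ ρ G f) (h₂ : α ≫ s' G f = β ≫ s' G f)
    (h₃ : α ≫ t' G f = β ≫ t' G f) : α = β := by
  apply pullback.hom_ext
  · apply pullback.hom_ext
    · simpa [ρ] using h₁
    · simpa [t'] using h₃
  · exact h₂

/-- The restriction of a groupoid along a map to its objects. -/
def restr : Grpd.GroupoidScheme S where
  U := U'
  R := R' G f
  pU := f ≫ G.pU
  pR := ρ G f ≫ G.pR
  s := s' G f
  t := t' G f
  e := eR G f
  i := iR G f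
  c := compR G f
  s_over := by rw [← reassoc_of% (ρ_s G f), G.s_over]
  t_over := by rw [← reassoc_of% (ρ_t G f), G.t_over]
  comp_s := fun α β h => by
    rw [compR, Category.assoc, mkR_s, pullback.lift_snd_assoc]
  comp_t := fun α β h => by
    rw [compR, Category.assoc, mkR_t, pullback.lift_fst_assoc]
  assoc := fun α β γ h₁ h₂ => by
    apply R'_ext
    · refine (compR_ρ _ _ _ _ _).trans (Eq.trans ?_ (compR_ρ _ _ _ _ _).symm)
      refine (mul_congr (compR_ρ G f α β h₁) rfl _).trans (Eq.trans ?_ (mul_congr rfl (compR_ρ G f β γ h₂) _).symm)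
      exact G.assoc _ _ _ _ _
    · simp [compR, mkR_s]
    · simp [compR, mkR_t]
  e_s := mkR_s _ _ _ _ _ _ _
  e_t := mkR_t _ _ _ _ _ _ _
  comp_e := fun α => by
    apply R'_ext
    · rw [compR_ρ, mul_congr rfl (show (α ≫ s' G f ≫ eR G f) ≫ ρ G f = (α ≫ ρ G f) ≫ G.s ≫ G.e by
        rw [Category.assoc, Category.assoc, eR_ρ, Category.assoc, reassoc_of% (ρ_s G f)])]
      exact G.comp_e _
    · simp [compR, eR, mkR_s]
    · simp [compR, eR, mkR_t]
  e_comp := fun α => by
    apply R'_ext
    · rw [compR_ρ, mul_congr (show (α ≫ t' G f ≫ eR G f) ≫ ρ G f = (α ≫ ρ G f) ≫ G.t ≫ G.e by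
        rw [Category.assoc, Category.assoc, eR_ρ, Category.assoc, reassoc_of% (ρ_t G f)]) rfl]
      exact G.e_comp _
    · simp [compR, eR, mkR_s]
    · simp [compR, eR, mkR_t]
  i_s := mkR_s _ _ _ _ _ _ _
  i_t := mkR_t _ _ _ _ _ _ _
  comp_i := fun α => by
    apply R'_ext
    · rw [compR_ρ, mul_congr rfl (show (α ≫ iR G f) ≫ ρ G f = (α ≫ ρ G f) ≫ G.i by
        rw [Category.assoc, iR_ρ, Category.assoc]), show (α ≫ t' G f ≫ eR G f) ≫ ρ G f = (α ≫ ρ G f) ≫ G.t ≫ G.e by
        rw [Category.assoc, Category.assoc, eR_ρ, Category.assoc, reassoc_of% (ρ_t G f)]]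
      exact G.comp_i _
    · simp [compR, eR, iR, mkR_s]
    · simp [compR, eR, iR, mkR_t]
  i_comp := fun α => by
    apply R'_ext
    · rw [compR_ρ, mul_congr (show (α ≫ iR G f) ≫ ρ G f = (α ≫ ρ G f) ≫ G.i by
        rw [Category.assoc, iR_ρ, Category.assoc]) rfl, show (α ≫ s' G f ≫ eR G f) ≫ ρ G f = (α ≫ ρ G f) ≫ G.s ≫ G.e by
        rw [Category.assoc, Category.assoc, eR_ρ, Category.assoc, reassoc_of% (ρ_s G f)]]
      exact G.i_comp _
    · simp [compR, eR, iR, mkR_s]
    · simp [compR, eR, iR, mkR_t]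

/-- The projection of a restriction. -/
def restrHom : Grpd.GroupoidScheme.Hom (restr G f) G where
  fU := f
  fR := ρ G f
  fU_over := rfl
  comm_s := ρ_s G f
  comm_t := ρ_t G f
  comm_c := fun α β h => compR_ρ G f α β h

theorem isPullback_restr : IsPullback (ρ G f) (restr G f).j G.j
    (pullback.map (restr G f).pU (restr G f).pU G.pU G.pU f f (𝟙 S)
      ((Category.comp_id _).trans rfl) ((Category.comp_id _).trans rfl)) := by
  have hb₁ : pullback.map (restr G f).pU (restr G f).pU G.pU G.pU f f (𝟙 S)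
      ((Category.comp_id _).trans rfl) ((Category.comp_id _).trans rfl) ≫ pullback.fst G.pU G.pU =
      pullback.fst _ _ ≫ f := pullback.lift_fst _ _ _
  have hb₂ : pullback.map (restr G f).pU (restr G f).pU G.pU G.pU f f (𝟙 S)
      ((Category.comp_id _).trans rfl) ((Category.comp_id _).trans rfl) ≫ pullback.snd G.pU G.pU =
      pullback.snd _ _ ≫ f := pullback.lift_snd _ _ _
  have hj₁ : G.j ≫ pullback.fst G.pU G.pU = G.t := pullback.lift_fst _ _ _
  have hj₂ : G.j ≫ pullback.snd G.pU G.pU = G.s := pullback.lift_snd _ _ _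
  have hk₁ : (restr G f).j ≫ pullback.fst _ _ = t' G f := pullback.lift_fst _ _ _
  have hk₂ : (restr G f).j ≫ pullback.snd _ _ = s' G f := pullback.lift_snd _ _ _
  have w : ρ G f ≫ G.j = (restr G f).j ≫ pullback.map (restr G f).pU (restr G f).pU G.pU G.pU f f (𝟙 S)
      ((Category.comp_id _).trans rfl) ((Category.comp_id _).trans rfl) := by
    apply pullback.hom_ext
    · simp only [Category.assoc, hj₁, hb₁]
      rw [reassoc_of% hk₁]; exact ρ_t G f
    · simp only [Category.assoc, hj₂, hb₂]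
      rw [reassoc_of% hk₂]; exact ρ_s G f
  refine IsPullback.of_isLimit' ⟨w⟩ (PullbackCone.IsLimit.mk _
    (fun c => mkR G f c.fst (c.snd ≫ pullback.snd _ _) (c.snd ≫ pullback.fst _ _)
      (by have h := congrArg (· ≫ pullback.snd G.pU G.pU) c.condition
          simp only [Category.assoc, hj₂, hb₂] at h
          simpa only [Category.assoc] using h)
      (by have h := congrArg (· ≫ pullback.fst G.pU G.pU) c.condition
          simp only [Category.assoc, hj₁, hb₁] at h
          simpa only [Category.assoc] using h))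
    (fun c => mkR_ρ _ _ _ _ _ _ _) (fun c => ?_) (fun c m h₁ h₂ => ?_))
  · apply pullback.hom_ext
    · rw [Category.assoc, hk₁, mkR_t]
    · rw [Category.assoc, hk₂, mkR_s]
  · refine R'_ext G f (h₁.trans (mkR_ρ _ _ _ _ _ _ _).symm) ?_ ?_
    · rw [mkR_s, ← hk₂, ← Category.assoc]; exact congrArg (· ≫ pullback.snd _ _) h₂
    · rw [mkR_t, ← hk₁, ← Category.assoc]; exact congrArg (· ≫ pullback.fst _ _) h₂

instance etale_ρ [Etale f] : Etale (ρ G f) := by
  unfold QuasiSecLib.ρ
  infer_instance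

end Groth.Agent.QSplitLib
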