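import Groth.Agent.QSplitLib.Split
import Groth.Prelude.Def_Dual3

/-!
The sets of arrows along which a groupoid scheme is split.
-/

set_option autoImplicit false
set_option linter.style.haveILetI false
universe u

open CategoryTheory CategoryTheory.Limits AlgebraicGeometry
open Groth.Agent.FinGrpdLib Groth.Agent.EtaleSplit

namespace Groth.Agent.QSplitLib

theorem quasiFiniteAt_of_dual3 {X Y : Scheme.{u}} (f : X ⟶ Y) [LocallyOfFiniteType f] (x : X)
    (h : Dual3.QuasiFiniteAt f x) : f.QuasiFiniteAt x :=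
  Scheme.Hom.quasiFiniteAt_iff_isOpen_singleton_asFiber.mpr h

/-- At the image of a section the residue fields agree. -/
theorem section_residue_bijective {X Y : Scheme.{u}} (e : Y ⟶ X) (f : X ⟶ Y) (he : e ≫ f = 𝟙 Y) (u : Y) :
    Function.Bijective (f.residueFieldMap (e u)) := by
  refine residue_bijective_of_comp e f u ?_
  rw [Scheme.Hom.residueFieldMap_congr he, Scheme.residueFieldMap_id]
  exact @ConcreteCategory.bijective_of_isIso _ _ _ _ _ _ _ _ _ (@IsIso.comp_isIso _ _ _ _ _ _ _ inferInstance (IsIso.id _))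

variable {S : Scheme.{u}} (G : Grpd.GroupoidScheme S) (u : G.U)

theorem isSplitSet_identity (hqf : G.s.QuasiFiniteAt (G.e u)) : IsSplitSet G u {G.e u} where
  finite := Set.finite_singleton _
  e_mem := rfl
  s_eq := by rintro _ rfl; rw [← Scheme.Hom.comp_apply, G.e_s]; rfl
  t_eq := by rintro _ rfl; rw [← Scheme.Hom.comp_apply, G.e_t]; rfl
  qf := by rintro _ rfl; exact hqf
  mul_iff := by
    intro K _ r k h hk
    have hk' : k = (k ≫ G.s) ≫ G.e := by
      refine eq_of_comp_eq G.s (G.e u) (section_residue_bijective G.e G.s G.e_s u) _ _ hk ?_ ?_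
      · rw [pt_comp, pt_comp, Set.mem_singleton_iff.1 hk, ← Scheme.Hom.comp_apply G.e G.s, G.e_s]; rfl
      · rw [Category.assoc, G.e_s, Category.comp_id]
    have hts : k ≫ G.t = k ≫ G.s := by
      conv_lhs => rw [hk']
      rw [Category.assoc, G.e_t, Category.comp_id]
    rw [mul_congr rfl (show k = r ≫ G.s ≫ G.e by rw [reassoc_of% h, reassoc_of% hts, ← Category.assoc, ← hk']) h,
      show mul G r (r ≫ G.s ≫ G.e) _ = r from G.comp_e r]

theorem isSplitSet_full (hfin : {r : G.R | G.s r = u ∧ G.t r = u}.Finite)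
    (hqf : ∀ r : G.R, G.s r = u → G.t r = u → G.s.QuasiFiniteAt r) :
    IsSplitSet G u {r : G.R | G.s r = u ∧ G.t r = u} where
  finite := hfin
  e_mem := ⟨by rw [← Scheme.Hom.comp_apply, G.e_s]; rfl, by rw [← Scheme.Hom.comp_apply, G.e_t]; rfl⟩
  s_eq := fun r hr => hr.1
  t_eq := fun r hr => hr.2
  qf := fun r hr => hqf r hr.1 hr.2
  mul_iff := by
    intro K _ r k h hk
    have h1 : G.s (pt (mul G r k h)) = G.s (pt k) := by rw [← pt_comp, mul_s, pt_comp]
    have h2 : G.t (pt (mul G r k h)) = G.t (pt r) := by rw [← pt_comp, mul_t, pt_comp]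
    have h3 : G.s (pt r) = G.t (pt k) := by rw [← pt_comp, h, pt_comp]
    simp only [Set.mem_setOf_eq] at hk ⊢
    rw [h1, h2, h3, hk.1, hk.2]

theorem isSplitSet_stab (hfin : {g : G.stabilizer | G.stabilizerToU g = u}.Finite)
    (hqf : ∀ g : G.stabilizer, G.stabilizerToU g = u →
      G.s.QuasiFiniteAt ((pullback.fst G.j G.diag : G.stabilizer ⟶ G.R) g)) :
    IsSplitSet G u {r : G.R | G.j r = G.diag u} := by
  have hj₁ : G.j ≫ pullback.fst G.pU G.pU = G.t := pullback.lift_fst _ _ _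
  have hj₂ : G.j ≫ pullback.snd G.pU G.pU = G.s := pullback.lift_snd _ _ _
  have hd₁ : G.diag ≫ pullback.fst G.pU G.pU = 𝟙 _ := pullback.lift_fst _ _ _
  have hd₂ : G.diag ≫ pullback.snd G.pU G.pU = 𝟙 _ := pullback.lift_snd _ _ _
  have hs : ∀ r, G.j r = G.diag u → G.s r = u := fun r hr => by
    rw [← hj₂, Scheme.Hom.comp_apply, hr, ← Scheme.Hom.comp_apply, hd₂]; rfl
  have hlift : ∀ r, G.j r = G.diag u → ∃ g : G.stabilizer, G.stabilizerToU g = u ∧
      (pullback.fst G.j G.diag : G.stabilizer ⟶ G.R) g = r := fun r hr => by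
    obtain ⟨g, hg₁, hg₂⟩ := Scheme.Pullback.exists_preimage_pullback (f := G.j) (g := G.diag) r u hr
    exact ⟨g, hg₂, hg₁⟩
  refine ⟨(hfin.image (pullback.fst G.j G.diag : G.stabilizer ⟶ G.R)).subset fun r hr => ?_, ?_, hs,
    fun r hr => ?_, fun r hr => ?_, fun K _ r k h hk => ?_⟩
  · obtain ⟨g, hg, hgr⟩ := hlift r hr
    exact ⟨g, hg, hgr⟩
  · show G.j (G.e u) = G.diag u
    rw [← Scheme.Hom.comp_apply]
    refine congrArg (fun k : G.U ⟶ pullback G.pU G.pU => k u) ?_
    apply pullback.hom_ext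
    · rw [Category.assoc, hj₁, hd₁, G.e_t]
    · rw [Category.assoc, hj₂, hd₂, G.e_s]
  · rw [← hj₁, Scheme.Hom.comp_apply, hr, ← Scheme.Hom.comp_apply, hd₁]; rfl
  · obtain ⟨g, hg, rfl⟩ := hlift r hr
    exact hqf g hg
  · -- the two components of an arrow over the diagonal point agree
    have hk' : k ≫ G.t = k ≫ G.s := by
      have hz : k ≫ G.j = ((k ≫ G.j) ≫ pullback.fst G.pU G.pU) ≫ G.diag := by
        refine eq_of_comp_eq (pullback.fst G.pU G.pU) (G.diag u)
          (section_residue_bijective G.diag _ hd₁ u) _ _ hk ?_ ?_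
        · rw [pt_comp, pt_comp, show pt (k ≫ G.j) = G.diag u from hk, ← Scheme.Hom.comp_apply G.diag, hd₁]; rfl
        · simp [hd₁]
      have h2 := congrArg (· ≫ pullback.snd G.pU G.pU) hz
      simp only [Category.assoc, hj₁, hj₂, hd₂, Category.comp_id] at h2
      exact h2.symm
    have e : mul G r k h ≫ G.j = r ≫ G.j := by
      apply pullback.hom_ext
      · rw [Category.assoc, Category.assoc, hj₁, mul_t]
      · rw [Category.assoc, Category.assoc, hj₂, mul_s, h, hk']
    show G.j (pt (mul G r k h)) = G.diag u ↔ G.j (pt r) = G.diag u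
    rw [← pt_comp, e, pt_comp]

end Groth.Agent.QSplitLib
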