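import Groth.Agent.QSplitLib.Piece
import Groth.Agent.QSplitLib.Restr
import Groth.Agent.QSplitLib.Nbhd
import Groth.Agent.FinGrpdLib.Orbit
import Groth.Agent.FinGrpdLib.Res
import Groth.Agent.FinGrpdLib.Field

/-!
Splitting a groupoid scheme over an etale neighbourhood along a finite set of arrows closed under the groupoid laws.
-/

set_option autoImplicit false
set_option backward.isDefEq.respectTransparency false
set_option linter.style.haveILetI false
universe u

open CategoryTheory CategoryTheory.Limits AlgebraicGeometry TopologicalSpace PicF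
open Groth.Agent.FinGrpdLib Groth.Agent.EtaleSplit

noncomputable section

namespace Groth.Agent.QSplitLib

variable {S : Scheme.{u}} (G : Grpd.GroupoidScheme S)

/-- A finite set of arrows at a point behaving like a group of arrows. -/
structure IsSplitSet (u : G.U) (F : Set G.R) : Prop where
  finite : F.Finite
  e_mem : G.e u ∈ F
  s_eq : ∀ r ∈ F, G.s r = u
  t_eq : ∀ r ∈ F, G.t r = u
  qf : ∀ r ∈ F, G.s.QuasiFiniteAt r
  mul_iff : ∀ (K : Type u) [Field K] (r k : Spec (.of K) ⟶ G.R) (h : r ≫ G.s = k ≫ G.t),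
    pt k ∈ F → (pt (mul G r k h) ∈ F ↔ pt r ∈ F)

variable {G}

theorem exists_split [IsAffine G.U] [IsSeparated G.s] [Flat G.s] [LocallyOfFinitePresentation G.s]
    {u : G.U} {F : Set G.R} (hF : IsSplitSet G u F) :
    ∃ (G' : Grpd.GroupoidScheme S) (φ : Grpd.GroupoidScheme.Hom G' G) (u' : ↥G'.U),
      IsAffine G'.U ∧ Etale φ.fU ∧ φ.fU u' = u ∧ IsIso (φ.fU.residueFieldMap u') ∧
      IsPullback φ.fR G'.j G.j
        (pullback.map G'.pU G'.pU G.pU G.pU φ.fU φ.fU (𝟙 S)
          ((Category.comp_id _).trans φ.fU_over.symm) ((Category.comp_id _).trans φ.fU_over.symm)) ∧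
      ∃ (P : Scheme.{u}) (ιP : P ⟶ G'.R), IsOpenImmersion ιP ∧
        (∃ eP : G'.U ⟶ P, eP ≫ ιP = G'.e) ∧ (∃ iP : P ⟶ P, iP ≫ ιP = ιP ≫ G'.i) ∧
        (∃ cP : pullback (ιP ≫ G'.s) (ιP ≫ G'.t) ⟶ P,
          cP ≫ ιP = pullback.map (ιP ≫ G'.s) (ιP ≫ G'.t) G'.s G'.t ιP ιP (𝟙 G'.U)
            (Category.comp_id _) (Category.comp_id _) ≫ G'.c) ∧
        IsFinite (ιP ≫ G'.s) ∧ IsFinite (ιP ≫ G'.t) ∧
        ∀ r' : ↥G'.R, G'.s r' = u' → G'.t r' = u' → φ.fR r' ∈ F → ∃ p : ↥P, ιP p = r' := by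
  obtain ⟨d, M, h₀, V, h₀V, hVet, h₀u, h₀bij, hW⟩ :=
    exists_point G.s G.e G.e_s u hF.finite hF.e_mem hF.s_eq hF.qf
  -- membership in the piece at the special point
  have hmem : ∀ (K : Type u) [Field K] (o : Spec (.of K) ⟶ M.O.left) (r : Spec (.of K) ⟶ G.R),
      pt o = h₀ → r ≫ G.s = o ≫ M.O.hom → (Mem M o r ↔ pt r ∈ F) := by
    intro K _ o r ho hr
    have h2 : XTproj G.s M.O (pt (pullback.lift r o hr)) = h₀ := by
      rw [← pt_comp, show pullback.lift r o hr ≫ XTproj G.s M.O = o from pullback.lift_snd _ _ _, ho]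
    have h1 : pullback.fst G.s M.O.hom (pt (pullback.lift r o hr)) = pt r := by
      rw [← pt_comp, pullback.lift_fst]
    rw [mem_iff]
    constructor
    · rintro ⟨_, hx⟩
      rw [← h1]; exact (hW _ h2).1 (hx _)
    · intro hrF
      refine ⟨hr, fun x => ?_⟩
      rw [pt_eq]
      exact (hW _ h2).2 (h1.symm ▸ hrF)
  -- the special point is its own orbit
  have horb : ∀ (K : Type u) [Field K] (p : Spec (.of K) ⟶ M.W.toScheme),
      pt (p ≫ src M) = h₀ → pt (p ≫ tgt M) = h₀ := by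
    intro K _ p hp
    have hps : (p ≫ arrow M) ≫ G.s = (p ≫ src M) ≫ M.O.hom := by rw [Category.assoc, arrow_s, Category.assoc]
    have hk : pt (p ≫ arrow M) ∈ F := (hmem K _ _ hp hps).1 ⟨p, rfl, rfl⟩
    obtain ⟨o, ho, hpo⟩ := exists_lift_of_residue_bijective M.O.hom h₀ h₀bij ((p ≫ arrow M) ≫ G.t)
      (by rw [h₀u, pt_comp]; exact (hF.t_eq _ hk).symm)
    rw [← hpo]
    refine congrArg (fun q : Spec (.of K) ⟶ M.O.left => pt q) (ext_of_mem M _ _ ?_ fun L _ g r hr => ?_)
    · rw [ho, Category.assoc, tgt_hom, Category.assoc]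
    have hr' : r ≫ G.s = ((g ≫ p) ≫ arrow M) ≫ G.t := by
      rw [hr, Category.assoc, tgt_hom]; simp only [Category.assoc]
    have hgp : pt (g ≫ p ≫ src M) = h₀ := by rw [pt_comp, pt_eq]; exact hp
    have hgk : pt ((g ≫ p) ≫ arrow M) ∈ F := by rw [Category.assoc, pt_comp, pt_eq]; exact hk
    rw [← Category.assoc, mem_tgt M (g ≫ p) r hr', hmem L _ _ (by rw [Category.assoc]; exact hgp)
      (by rw [mul_s, Category.assoc, arrow_s]; simp only [Category.assoc]), hF.mul_iff L r _ hr' hgk,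
      hmem L (g ≫ o) r (by rw [pt_comp, pt_eq]; exact hpo) (by
        rw [Category.assoc, ho, hr']; simp only [Category.assoc])]
  -- the invariant affine neighbourhood
  have hrel : ∀ y : M.O.left, Rel (piece M) y h₀ → y = h₀ := by
    rintro y ⟨p, rfl, hp⟩
    let κ : Spec (CommRingCat.of (M.W.toScheme.residueField p)) ⟶ M.W.toScheme := M.W.toScheme.fromSpecResidueField p
    have hκ : pt κ = p := Scheme.fromSpecResidueField_apply _ _
    have h := horb _ κ (by rw [pt_comp, hκ]; exact hp)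
    rw [pt_comp, hκ] at h
    exact h
  obtain ⟨_, ⟨V₀ : M.O.left.Opens, hV₀, rfl⟩, h₀V₀, hV₀V⟩ :=
    M.O.left.isBasis_affineOpens.exists_subset_of_mem_open h₀V V.2
  obtain ⟨W, hWaff, h₀W, hWinv, hWV, -⟩ := exists_invariant_affine (piece M) h₀ (V := V₀) hV₀ V
    (fun y hy => by rw [hrel y hy]; exact h₀V₀) (fun y hy => by rw [hrel y hy]; exact h₀V)
  let f : W.toScheme ⟶ G.U := W.ι ≫ M.O.hom
  haveI : Etale f := by
    have h : f = M.O.left.homOfLE hWV ≫ V.ι ≫ M.O.hom := by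
      show W.ι ≫ M.O.hom = _
      rw [← Category.assoc]
      exact congrArg (· ≫ M.O.hom) (Scheme.homOfLE_ι _ hWV).symm
    rw [h]; infer_instance
  let H := res (piece M) W hWinv
  let ι₀ : H.R ⟶ M.W.toScheme := ((piece M).s ⁻¹ᵁ W).ι
  let a : H.R ⟶ G.R := ι₀ ≫ arrow M
  have hs0 : H.s ≫ W.ι = ι₀ ≫ src M := morphismRestrict_ι _ _
  have ht0 : H.t ≫ W.ι = ι₀ ≫ tgt M := Scheme.Hom.resLE_comp_ι _ _
  have has : a ≫ G.s = H.s ≫ f := by
    show (ι₀ ≫ arrow M) ≫ G.s = _
    rw [Category.assoc, arrow_s, ← reassoc_of% hs0]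
  have hat : a ≫ G.t = H.t ≫ f := by
    show (ι₀ ≫ arrow M) ≫ G.t = _
    rw [Category.assoc, ← tgt_hom, ← reassoc_of% ht0]
  let ιP : H.R ⟶ (restr G f).R := QuasiSecLib.mkR G f a H.s H.t has hat
  have hρ : ιP ≫ QuasiSecLib.ρ G f = a := QuasiSecLib.mkR_ρ _ _ _ _ _ _ _
  have hsι : ιP ≫ (restr G f).s = H.s := QuasiSecLib.mkR_s _ _ _ _ _ _ _
  have htι : ιP ≫ (restr G f).t = H.t := QuasiSecLib.mkR_t _ _ _ _ _ _ _
  have hext : ∀ {T : Scheme.{u}} {α β : T ⟶ (restr G f).R}, α ≫ QuasiSecLib.ρ G f = β ≫ QuasiSecLib.ρ G f →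
      α ≫ (restr G f).s = β ≫ (restr G f).s → α ≫ (restr G f).t = β ≫ (restr G f).t → α = β :=
    fun h₁ h₂ h₃ => R'_ext G f h₁ h₂ h₃
  haveI : Mono ιP := ⟨fun {T} x y h => by
    have h1 : x ≫ a = y ≫ a := by rw [← hρ, reassoc_of% h]
    have h2 : x ≫ H.s = y ≫ H.s := by rw [← hsι, reassoc_of% h]
    rw [← cancel_mono ι₀]
    refine src_arrow_ext M (by rw [Category.assoc, Category.assoc]; exact h1) ?_
    rw [Category.assoc, Category.assoc, ← hs0, reassoc_of% h2]⟩
  haveI : Etale a := by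
    let m : H.R ⟶ pullback G.s f := pullback.lift a H.s has
    let n : pullback G.s f ⟶ pullback G.s M.O.hom :=
      pullback.map _ _ _ _ (𝟙 _) W.ι (𝟙 _) (by simp) (by simp [f])
    have hn : IsPullback n (pullback.snd G.s f) (pullback.snd G.s M.O.hom) W.ι := by
      refine IsPullback.of_right (h₁₂ := pullback.fst G.s M.O.hom) (v₁₃ := G.s) (h₂₂ := M.O.hom) ?_
        (pullback.lift_snd _ _ _) (IsPullback.of_hasPullback _ _)
      rw [show n ≫ pullback.fst G.s M.O.hom = pullback.fst G.s f from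
        (pullback.lift_fst _ _ _).trans (Category.comp_id _)]
      exact IsPullback.of_hasPullback G.s f
    haveI : IsOpenImmersion n := MorphismProperty.of_isPullback hn.flip inferInstance
    haveI : IsOpenImmersion (m ≫ n) := by
      have h : m ≫ n = ι₀ ≫ M.W.ι := by
        apply pullback.hom_ext
        · rw [Category.assoc, Category.assoc, show n ≫ pullback.fst G.s M.O.hom = pullback.fst G.s f from
            (pullback.lift_fst _ _ _).trans (Category.comp_id _), pullback.lift_fst]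
          rfl
        · rw [Category.assoc, Category.assoc, hn.w, reassoc_of% (show m ≫ pullback.snd G.s f = H.s from
            pullback.lift_snd _ _ _), hs0]
          rfl
      rw [h]; infer_instance
    haveI : IsOpenImmersion m := IsOpenImmersion.of_comp m n
    have h : a = m ≫ pullback.fst G.s f := (pullback.lift_fst _ _ _).symm
    rw [h]; infer_instance
  haveI : Etale (ιP ≫ QuasiSecLib.ρ G f) := by rw [hρ]; infer_instance
  haveI : Etale ιP := Etale.of_comp ιP (QuasiSecLib.ρ G f)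
  haveI : IsOpenImmersion ιP := IsOpenImmersion.of_flat_of_mono ιP
  have he0 : H.e ≫ ι₀ = W.ι ≫ pE M := Scheme.Hom.resLE_comp_ι (piece M).e _
  have hi0 : H.i ≫ ι₀ = ι₀ ≫ pI M := Scheme.Hom.resLE_comp_ι (piece M).i _
  have hea : H.e ≫ a = f ≫ G.e := by
    show H.e ≫ ι₀ ≫ arrow M = _
    rw [reassoc_of% he0, pE_arrow]
    exact (Category.assoc _ _ _).symm
  have hia : H.i ≫ a = a ≫ G.i := by
    show H.i ≫ ι₀ ≫ arrow M = (ι₀ ≫ arrow M) ≫ G.i
    rw [reassoc_of% hi0, pI_arrow, Category.assoc]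
  have hfin_s : IsFinite H.s := inferInstanceAs (IsFinite (res (piece M) W hWinv).s)
  have hfin_t : IsFinite H.t := by
    rw [← H.i_s]
    haveI : IsIso H.i := ⟨H.i, FinGrpdLib.i_comp_i H, FinGrpdLib.i_comp_i H⟩
    infer_instance
  refine ⟨restr G f, restrHom G f, (⟨h₀, h₀W⟩ : W.toScheme), hWaff, ‹Etale f›, h₀u, ?_,
    isPullback_restr G f, H.R, ιP, ‹_›, ⟨H.e, ?_⟩, ⟨H.i, ?_⟩,
    ⟨pullback.map (ιP ≫ (restr G f).s) (ιP ≫ (restr G f).t) H.s H.t (𝟙 _) (𝟙 _) (𝟙 _)
      (by rw [Category.comp_id, Category.id_comp]; exact hsι)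
      (by rw [Category.comp_id, Category.id_comp]; exact htι) ≫ H.c, ?_⟩, ?_, ?_, ?_⟩
  · haveI : IsIso (M.O.hom.residueFieldMap (W.ι ⟨h₀, h₀W⟩)) := (ConcreteCategory.isIso_iff_bijective _).2 h₀bij
    show IsIso ((W.ι ≫ M.O.hom).residueFieldMap _)
    rw [Scheme.residueFieldMap_comp]
    infer_instance
  · apply hext
    · rw [Category.assoc, hρ]
      exact hea.trans (QuasiSecLib.eR_ρ G f).symm
    · rw [Category.assoc, hsι, H.e_s]; exact (restr G f).e_s.symm
    · rw [Category.assoc, htι, H.e_t]; exact (restr G f).e_t.symm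
  · apply hext
    · rw [Category.assoc, hρ, Category.assoc]
      refine hia.trans ?_
      rw [← hρ, Category.assoc]
      exact congrArg (ιP ≫ ·) (QuasiSecLib.iR_ρ G f).symm
    · rw [Category.assoc, hsι, H.i_s, Category.assoc, (restr G f).i_s, htι]
    · rw [Category.assoc, htι, H.i_t, Category.assoc, (restr G f).i_t, hsι]
  · have hc : ∀ {T : Scheme.{u}} (α β : T ⟶ H.R) (h : α ≫ H.s = β ≫ H.t)
        (h' : (α ≫ ιP) ≫ (restr G f).s = (β ≫ ιP) ≫ (restr G f).t),
        (pullback.lift α β h ≫ H.c) ≫ ιP = pullback.lift (α ≫ ιP) (β ≫ ιP) h' ≫ (restr G f).c := by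
      intro T α β h h'
      apply hext
      · rw [Category.assoc, hρ]
        refine Eq.trans ?_ (QuasiSecLib.compR_ρ G f _ _ h').symm
        show (pullback.lift α β h ≫ H.c) ≫ ι₀ ≫ arrow M = _
        rw [← Category.assoc, show (pullback.lift α β h ≫ H.c) ≫ ι₀ = _ from lift_resC (piece M) W hWinv α β h]
        refine (pComp_arrow M _ _ _).trans ?_
        exact mul_congr (by rw [Category.assoc α ιP, hρ, Category.assoc]) (by rw [Category.assoc β ιP, hρ, Category.assoc]) _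
      · rw [Category.assoc, hsι, H.comp_s, (restr G f).comp_s, Category.assoc, hsι]
      · rw [Category.assoc, htι, H.comp_t, (restr G f).comp_t, Category.assoc, htι]
    have key := hc (pullback.fst (ιP ≫ (restr G f).s) (ιP ≫ (restr G f).t)) (pullback.snd _ _)
      (by rw [← hsι, ← htι]; exact pullback.condition) (by simpa only [Category.assoc] using pullback.condition)
    refine Eq.trans ?_ (key.trans ?_)
    · congr 2
    · congr 1
  · rw [hsι]; exact hfin_s
  · rw [htι]; exact hfin_t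
  · intro r' hs' ht' hr'F
    let κ : Spec (CommRingCat.of ((restr G f).R.residueField r')) ⟶ (restr G f).R := (restr G f).R.fromSpecResidueField r'
    have hκ : pt κ = r' := Scheme.fromSpecResidueField_apply _ _
    let o₁ := (κ ≫ (restr G f).s) ≫ W.ι
    have ho₁ : pt o₁ = h₀ := by
      rw [pt_comp, pt_comp, hκ, hs']; rfl
    have hr : (κ ≫ QuasiSecLib.ρ G f) ≫ G.s = o₁ ≫ M.O.hom := by
      rw [Category.assoc, QuasiSecLib.ρ_s]
      simp only [o₁, Category.assoc]; rfl
    obtain ⟨p, hp₁, hp₂⟩ := (hmem _ o₁ _ ho₁ hr).2 (by rw [pt_comp, hκ]; exact hr'F)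
    let p' : _ ⟶ H.R := IsOpenImmersion.lift ι₀ p (by
      show Set.range p ⊆ Set.range ((piece M).s ⁻¹ᵁ W).ι
      rw [Scheme.Opens.range_ι]
      rintro _ ⟨x, rfl⟩
      show src M (p x) ∈ W
      have hx : src M (p x) = h₀ := ((pt_eq (p ≫ src M) x).trans (congrArg (fun q => pt q) hp₂)).trans ho₁
      exact (congrArg (fun z => z ∈ W) hx).mpr h₀W)
    have hp' : p' ≫ ι₀ = p := IsOpenImmersion.lift_fac _ _ _
    refine ⟨pt p', ?_⟩
    refine Eq.trans ?_ hκ
    rw [← pt_comp]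
    refine congrArg (fun q : _ ⟶ (restr G f).R => pt q) (hext ?_ ?_ ?_)
    · rw [Category.assoc, hρ, ← hp₁, ← hp', Category.assoc]
    · rw [Category.assoc, hsι, ← cancel_mono W.ι, Category.assoc, hs0, reassoc_of% hp', hp₂]
    · rw [Category.assoc, htι, ← cancel_mono W.ι, Category.assoc, ht0, reassoc_of% hp']
      refine eq_of_comp_eq M.O.hom h₀ h₀bij _ _ (horb _ p (by rw [hp₂]; exact ho₁)) ?_ ?_
      · rw [pt_comp, pt_comp, hκ]; exact congrArg W.ι ht'
      · rw [Category.assoc, tgt_hom, reassoc_of% hp₁, QuasiSecLib.ρ_t]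
        simp only [Category.assoc]; rfl

end Groth.Agent.QSplitLib
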