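import Groth.Agent.QSplitLib.Good
import Groth.Agent.S1166
import Groth.Agent.FinGrpdLib.QFAffine
import Groth.Agent.FlatLocus.FibreStalk

/-!
Open and closed finite pieces of a separated quasi-finite scheme form a representable functor.
-/

set_option autoImplicit false
set_option linter.style.haveILetI false
universe u

open CategoryTheory CategoryTheory.Limits AlgebraicGeometry TopologicalSpace IsLocalRing PicF

noncomputable section

namespace Groth.Agent.QSplitLib

variable {R U : Scheme.{u}} (f : R ⟶ U)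

/-- An open piece, finite locally free of degree `d` over the parameter scheme. -/
def IsFam (d : ℕ) (T : Over U) (W : (XT f T).Opens) : Prop :=
  Mor2.IsFinLocFreeOfDeg d (W.ι ≫ XTproj f T)

theorem XTmap_comp {T T' T'' : Over U} (g : T'' ⟶ T') (h : T' ⟶ T) : XTmap f (g ≫ h) = XTmap f g ≫ XTmap f h := by
  apply pullback.hom_ext
  · simp only [XTmap, pullback.map, Category.assoc, Category.comp_id]
    erw [pullback.lift_fst, pullback.lift_fst, pullback.lift_fst]
  · simp only [XTmap, pullback.map, Category.assoc, Category.comp_id]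
    erw [pullback.lift_snd, pullback.lift_snd, pullback.lift_snd_assoc]
    exact (Category.assoc _ _ _).symm

theorem XTmap_id (T : Over U) : XTmap f (𝟙 T) = 𝟙 _ := by
  apply pullback.hom_ext <;> simp [XTmap, pullback.map]

variable {f} {d : ℕ} {T : Over U}

theorem IsFam.isClosedImmersion [IsSeparated f] {W : (XT f T).Opens} (h : IsFam f d T W) : IsClosedImmersion W.ι := by
  haveI := h.1.1
  haveI : IsFinite W.ι := IsFinite.of_comp W.ι (XTproj f T)
  exact .of_isPreimmersion _ W.ι.isClosedMap.isClosed_range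

theorem support_ker_ι {X : Scheme.{u}} (W : X.Opens) [IsClosedImmersion W.ι] : (W.ι.ker.support : Set X) = W := by
  rw [Scheme.Hom.support_ker, W.ι.isClosedEmbedding.isClosed_range.closure_eq, Scheme.Opens.range_ι]

theorem comap_preimage_eq_bot {X Y : Scheme.{u}} (m : X ⟶ Y) (I : Y.IdealSheafData) (V : Y.Opens)
    (h : I.comap V.ι = ⊥) : (I.comap m).comap (m ⁻¹ᵁ V).ι = ⊥ := by
  rw [← Scheme.IdealSheafData.comap_comp, ← morphismRestrict_ι, Scheme.IdealSheafData.comap_comp, h,
    Scheme.IdealSheafData.comap_bot]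

theorem comap_ker_preimage {X Y : Scheme.{u}} (m : X ⟶ Y) (W : Y.Opens) [IsClosedImmersion W.ι] :
    W.ι.ker.comap m = (m ⁻¹ᵁ W).ι.ker := by
  refine eq_ker_of_support _ _ (comap_preimage_eq_bot m _ W (comap_ker_ι W)) ?_
  rw [Scheme.IdealSheafData.support_comap, TopologicalSpace.Closeds.coe_preimage, support_ker_ι]
  exact subset_rfl

theorem pull_eq_comap {T T' : Over U} (g : T' ⟶ T) (I : (XT f T).IdealSheafData) :
    HilbD.pull f g I = I.comap (XTmap f g) := by
  rw [HilbD.pull, Scheme.IdealSheafData.comap, ← Scheme.Hom.ker_comp_of_isIso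
    (pullbackSymmetry (XTmap f g) I.subschemeι).hom (pullback.snd I.subschemeι (XTmap f g)),
    pullbackSymmetry_hom_comp_snd]

theorem isPullback_XTmap {T T' : Over U} (g : T' ⟶ T) :
    IsPullback (XTmap f g) (XTproj f T') (XTproj f T) g.left := by
  refine IsPullback.of_right (h₁₂ := pullback.fst f T.hom) (v₁₃ := f) (h₂₂ := T.hom) ?_ ?_
    (IsPullback.of_hasPullback f T.hom)
  · rw [XTmap, pullback.lift_fst, Category.comp_id, Over.w g]
    exact IsPullback.of_hasPullback f T'.hom
  · exact pullback.lift_snd _ _ _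

theorem finLocFreeOfDeg_of_isPullback {P X Y Z : Scheme.{u}} {fst : P ⟶ X} {snd : P ⟶ Y} {g : X ⟶ Z} {h : Y ⟶ Z}
    (hc : IsPullback fst snd g h) (hd : Mor2.IsFinLocFreeOfDeg d g) : Mor2.IsFinLocFreeOfDeg d snd := by
  obtain ⟨⟨h1, h2, h3⟩, h4⟩ := hd
  haveI := h1
  haveI := h2
  refine ⟨⟨MorphismProperty.of_isPullback hc h1, MorphismProperty.of_isPullback hc h2,
    MorphismProperty.of_isPullback hc h3⟩, fun y => ?_⟩
  rw [Scheme.Hom.finrank_of_isPullback _ _ _ _ hc y]
  exact h4 _

theorem IsFam.pullback {T T' : Over U} {W : (XT f T).Opens} (h : IsFam f d T W) (g : T' ⟶ T) :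
    IsFam f d T' (XTmap f g ⁻¹ᵁ W) :=
  finLocFreeOfDeg_of_isPullback
    ((isPullback_morphismRestrict (XTmap f g) W).paste_vert (isPullback_XTmap g)) h

/-- The element of the Hilbert functor given by an open piece. -/
theorem IsFam.obj [IsSeparated f] {W : (XT f T).Opens} (h : IsFam f d T W) :
    Mor2.IsFinLocFreeOfDeg d (W.ι.ker.subschemeι ≫ XTproj f T) := by
  haveI := h.isClosedImmersion
  have e : W.ι.toImage ≫ W.ι.imageι = W.ι := W.ι.toImage_imageι
  have hc : IsPullback (inv W.ι.toImage) (W.ι.ker.subschemeι ≫ XTproj f T) (W.ι ≫ XTproj f T) (𝟙 _) :=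
    IsPullback.of_horiz_isIso ⟨by
      rw [Category.comp_id, IsIso.inv_comp_eq, ← Category.assoc]
      exact congrArg (· ≫ XTproj f T) e.symm⟩
  exact finLocFreeOfDeg_of_isPullback hc h

theorem injective_stalkMap_of_flat {X Y : Scheme.{u}} (k : X ⟶ Y) [Flat k] (x : X) :
    Function.Injective (k.stalkMap x).hom := by
  letI := (k.stalkMap x).hom.toAlgebra
  haveI : Module.Flat (Y.presheaf.stalk (k x)) (X.presheaf.stalk x) := Flat.stalkMap k x
  haveI : IsLocalHom (algebraMap (Y.presheaf.stalk (k x)) (X.presheaf.stalk x)) := k.toLRSHom.prop x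
  haveI : Module.FaithfullyFlat (Y.presheaf.stalk (k x)) (X.presheaf.stalk x) :=
    Module.FaithfullyFlat.of_flat_of_isLocalHom
  exact FaithfulSMul.algebraMap_injective _ _

/-- A map to the Hilbert scheme pulling the universal family to an open piece lands where the family is open. -/
theorem mem_good_of_pull [LocallyOfFinitePresentation f] [IsSeparated f] {H : Over U}
    (I : (XT f H).IdealSheafData) [Flat (I.subschemeι ≫ XTproj f H)]
    [LocallyOfFinitePresentation (I.subschemeι ≫ XTproj f H)] {W : (XT f T).Opens} (hW : IsFam f d T W)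
    (g : T ⟶ H) (hg : I.comap (XTmap f g) = W.ι.ker) (t : T.left) {x : ↑(XT f H)} (hx : x ∈ I.support)
    (hxt : XTproj f H x = g.left t) : x ∈ Good I := by
  haveI := hW.isClosedImmersion
  obtain ⟨q, hq1, hq2⟩ : ∃ q, XTmap f g q = x ∧ XTproj f T q = t := by
    obtain ⟨z, hz1, hz2⟩ := Scheme.Pullback.exists_preimage_pullback (f := XTproj f H) (g := g.left) x t hxt
    refine ⟨(isPullback_XTmap g).isoPullback.inv z, ?_, ?_⟩
    · rw [← Scheme.Hom.comp_apply, IsPullback.isoPullback_inv_fst]; exact hz1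
    · rw [← Scheme.Hom.comp_apply, IsPullback.isoPullback_inv_snd]; exact hz2
  have hqW : q ∈ W := by
    have h : q ∈ (I.comap (XTmap f g)).support := by
      rw [Scheme.IdealSheafData.support_comap]
      show XTmap f g q ∈ I.support
      rw [hq1]; exact hx
    rw [hg] at h
    exact (support_ker_ι W).le h
  have hbot : IntMult.stalkIdeal W.ι.ker q = ⊥ :=
    stalkIdeal_eq_bot_of_good _ (Opens.mem_iSup.2 ⟨⟨W, comap_ker_ι W⟩, hqW⟩)
  rw [← hg, IdealStalkLib.stalkIdeal_comap] at hbot
  subst hq2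
  let p := XTproj f T
  let π := XTproj f H
  let z := p.asFiber q
  have hsq := isPullback_XTmap (f := f) g
  let k : p.fiber (p q) ⟶ π.fiber (g.left (p q)) :=
    pullback.lift (p.fiberι (p q) ≫ XTmap f g) (p.fiberToSpecResidueField (p q) ≫ Spec.map (g.left.residueFieldMap (p q))) (by
      rw [Category.assoc, Category.assoc, hsq.w, Scheme.Hom.SpecMap_residueFieldMap_fromSpecResidueField,
        ← Category.assoc, ← Category.assoc]
      exact congrArg (· ≫ g.left) pullback.condition)
  have hk : k ≫ π.fiberι _ = p.fiberι (p q) ≫ XTmap f g := pullback.lift_fst _ _ _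
  have hkc : IsPullback k (p.fiberToSpecResidueField (p q)) (π.fiberToSpecResidueField (g.left (p q)))
      (Spec.map (g.left.residueFieldMap (p q))) := by
    refine IsPullback.of_right (h₁₂ := π.fiberι _) (v₁₃ := π) (h₂₂ := H.left.fromSpecResidueField _) ?_
      (pullback.lift_snd _ _ _) (IsPullback.of_hasPullback π _)
    rw [hk, Scheme.Hom.SpecMap_residueFieldMap_fromSpecResidueField]
    exact (IsPullback.of_hasPullback p _).paste_horiz hsq
  haveI : Flat (Spec.map (g.left.residueFieldMap (p q))) := by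
    rw [HasRingHomProperty.Spec_iff (P := @Flat)]
    letI := (g.left.residueFieldMap (p q)).hom.toAlgebra
    exact (inferInstance : Module.Flat (H.left.residueField (g.left (p q))) (T.left.residueField (p q)))
  haveI : Flat k := MorphismProperty.of_isPullback hkc.flip inferInstance
  have hxy : π.fiberι _ (k z) = x := by
    rw [← Scheme.Hom.comp_apply, hk, Scheme.Hom.comp_apply, p.fiberι_asFiber q, hq1]
  subst hxy
  refine mem_good_of_fibre π I hx ?_
  rw [← FlatLocus.ker_fiberι_stalkMap π _ (k z)]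
  intro a ha
  rw [RingHom.mem_ker]
  apply injective_stalkMap_of_flat k z
  rw [map_zero]
  have h1 : (IntMult.stalkIdeal (I.comap (p.fiberι (p q) ≫ XTmap f g)) z) = ⊥ := by
    rw [Scheme.IdealSheafData.comap_comp, IdealStalkLib.stalkIdeal_comap, IdealStalkLib.stalkIdeal_comap]
    have hz : p.fiberι (p q) z = q := p.fiberι_asFiber q
    have key : ∀ q', q' = q → (IntMult.stalkIdeal I (XTmap f g q')).map ((XTmap f g).stalkMap q').hom = ⊥ := by
      rintro _ rfl; exact hbot
    rw [key _ hz, Ideal.map_bot]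
  rw [← hk, Scheme.IdealSheafData.comap_comp, IdealStalkLib.stalkIdeal_comap, IdealStalkLib.stalkIdeal_comap] at h1
  rw [← Ideal.mem_bot, ← h1]
  exact Ideal.mem_map_of_mem _ (Ideal.mem_map_of_mem _ ha)

variable (f) in
/-- Open and closed pieces, finite locally free of given degree, are representable. -/
theorem exists_universal [IsAffine U] [IsSeparated f] [LocallyQuasiFinite f] [LocallyOfFinitePresentation f] (d : ℕ) :
    ∃ (O : Over U) (W₀ : (XT f O).Opens), IsFam f d O W₀ ∧
      ∀ (T : Over U) (W : (XT f T).Opens), IsFam f d T W → ∃! g : T ⟶ O, XTmap f g ⁻¹ᵁ W₀ = W := by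
  obtain ⟨H, Z, hZ⟩ := S1166.result f d fun s x _ => by
    obtain ⟨V, hV, hxV⟩ := FinGrpdLib.exists_affine_of_finite f (Set.finite_range x)
    exact ⟨V, hV, fun i => hxV ⟨i, rfl⟩⟩
  obtain ⟨I, hI⟩ := Z
  haveI := hI.1.1
  haveI := hI.1.2.1
  haveI := hI.1.2.2
  let π := XTproj f H
  let bad : Set H.left := ⇑(I.subschemeι ≫ π) '' (⇑I.subschemeι ⁻¹' (Good I : Set ↑(XT f H))ᶜ)
  have hbad : IsClosed bad :=
    (I.subschemeι ≫ π).isClosedMap _ ((Good I).2.isClosed_compl.preimage I.subschemeι.continuous)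
  let O₁ : H.left.Opens := ⟨badᶜ, hbad.isOpen_compl⟩
  have hgood : ∀ x, x ∈ I.support → π x ∈ O₁ → x ∈ Good I := fun x hx hO => by
    by_contra hxG
    obtain ⟨z, rfl⟩ : ∃ z, I.subschemeι z = x := by
      rw [← Set.mem_range, Scheme.IdealSheafData.range_subschemeι]; exact hx
    exact hO ⟨z, hxG, Scheme.Hom.comp_apply ..⟩
  let O : Over U := Over.mk (O₁.ι ≫ H.hom)
  let j : O ⟶ H := Over.homMk O₁.ι rfl
  let W₀ : (XT f O).Opens := XTmap f j ⁻¹ᵁ Good I
  have hsq := isPullback_XTmap (f := f) j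
  have hW₀ : I.comap (XTmap f j) = W₀.ι.ker := by
    refine eq_ker_of_support _ _ (comap_preimage_eq_bot _ I _ (comap_good I)) fun q hq => ?_
    rw [Scheme.IdealSheafData.support_comap] at hq
    refine hgood _ hq ?_
    show π (XTmap f j q) ∈ O₁
    rw [← Scheme.Hom.comp_apply, hsq.w, Scheme.Hom.comp_apply]
    exact (XTproj f O q).2
  have hsupp : ∀ (T : Over U) (g : T ⟶ O),
      (XTmap f g ⁻¹ᵁ W₀ : Set ↑(XT f T)) = ((I.comap (XTmap f (g ≫ j))).support : Set ↑(XT f T)) := by
    intro T g
    have e : XTmap f (g ≫ j) = XTmap f g ≫ XTmap f j := XTmap_comp f g j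
    rw [e, Scheme.IdealSheafData.comap_comp, hW₀, Scheme.IdealSheafData.support_comap,
      TopologicalSpace.Closeds.coe_preimage]
    have hW₀c : IsClosed (W₀ : Set ↑(XT f O)) := by
      have : (W₀ : Set ↑(XT f O)) = ((I.comap (XTmap f j)).support : Set ↑(XT f O)) := by
        rw [Scheme.IdealSheafData.support_comap]
        refine Set.Subset.antisymm (fun q hq => good_subset_support I hq) fun q hq => hgood _ hq ?_
        show π (XTmap f j q) ∈ O₁
        rw [← Scheme.Hom.comp_apply, hsq.w, Scheme.Hom.comp_apply]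
        exact (XTproj f O q).2
      rw [this]; exact (I.comap (XTmap f j)).support.isClosed
    haveI : IsClosedImmersion W₀.ι := .of_isPreimmersion _ (by rw [Scheme.Opens.range_ι]; exact hW₀c)
    rw [support_ker_ι]
    rfl
  have hfam : IsFam f d O W₀ := by
    haveI : IsClosedImmersion W₀.ι := .of_isPreimmersion _ (by
      have h := hsupp O (𝟙 O)
      rw [XTmap_id, Scheme.Hom.id_preimage] at h
      rw [Scheme.Opens.range_ι, h]
      exact Closeds.isClosed _)
    have hr : Set.range (W₀.ι ≫ XTmap f j) ⊆ (Good I : Set ↑(XT f H)) := by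
      rintro _ ⟨z, rfl⟩; rw [Scheme.Hom.comp_apply]; exact z.2
    have hker : I.subschemeι.ker ≤ (W₀.ι ≫ XTmap f j).ker := by
      rw [Scheme.IdealSheafData.ker_subschemeι, ← Scheme.IdealSheafData.map_bot,
        Scheme.IdealSheafData.le_map_iff_comap_le, Scheme.IdealSheafData.comap_comp, hW₀, comap_ker_ι]
    let l := IsClosedImmersion.lift I.subschemeι (W₀.ι ≫ XTmap f j) hker
    have hc : IsPullback W₀.ι l (XTmap f j) I.subschemeι :=
      isPullback_of_isClosedImmersion W₀.ι I.subschemeι l (XTmap f j) (IsClosedImmersion.lift_fac _ _ _).symm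
        (by rw [Scheme.IdealSheafData.ker_subschemeι, hW₀])
    exact finLocFreeOfDeg_of_isPullback (hc.flip.paste_vert hsq) hI
  refine ⟨O, W₀, hfam, fun T W hW => ?_⟩
  obtain ⟨g₀, hg₀, huniq⟩ := hZ T ⟨W.ι.ker, hW.obj⟩
  simp only [pull_eq_comap] at hg₀ huniq
  have hr : Set.range g₀.left ⊆ Set.range O₁.ι := by
    rw [Scheme.Opens.range_ι]
    rintro _ ⟨t, rfl⟩
    show g₀.left t ∉ bad
    rintro ⟨z, hz, hzt⟩
    refine hz (mem_good_of_pull I hW g₀ hg₀ t ?_ (by rw [← hzt, Scheme.Hom.comp_apply]))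
    rw [← SetLike.mem_coe, ← Scheme.IdealSheafData.range_subschemeι]
    exact ⟨z, rfl⟩
  let g : T ⟶ O := Over.homMk (IsOpenImmersion.lift O₁.ι g₀.left hr) (by
    show IsOpenImmersion.lift O₁.ι g₀.left hr ≫ O₁.ι ≫ H.hom = T.hom
    rw [IsOpenImmersion.lift_fac_assoc, Over.w g₀])
  have hgj : g ≫ j = g₀ := Over.OverMorphism.ext (IsOpenImmersion.lift_fac _ _ _)
  haveI := hW.isClosedImmersion
  refine ⟨g, SetLike.coe_injective ?_, fun g' hg' => ?_⟩
  · rw [hsupp, hgj, hg₀, support_ker_ι]
  · haveI := hfam.isClosedImmersion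
    have h' : I.comap (XTmap f (g' ≫ j)) = W.ι.ker := by
      rw [XTmap_comp,
        Scheme.IdealSheafData.comap_comp, hW₀, comap_ker_preimage, hg']
    have e := huniq _ h'
    refine Over.OverMorphism.ext ((cancel_mono O₁.ι).1 ?_)
    have e' := congrArg (fun k : T ⟶ H => k.left) (e.trans hgj.symm)
    exact e'

end Groth.Agent.QSplitLib
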